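import Groth.Agent.Ega41.MvPS
import Mathlib.RingTheory.PowerSeries.Basic
import Mathlib.RingTheory.PowerSeries.Inverse
import Mathlib.RingTheory.Filtration
import Mathlib.RingTheory.LocalRing.ResidueField.Basic

/-!
# Restriction of power series in two variables to an axis; uniqueness of the thickness ideal
-/

set_option autoImplicit false

namespace K934.Node

open IsLocalRing

variable {C D : Type*} [CommRing C] [CommRing D]

/-- restriction of a power series in two variables to the `i`-th axis. -/
noncomputable def axis (C : Type*) [CommRing C] (i : Fin 2) :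
    MvPowerSeries (Fin 2) C →+* PowerSeries C where
  toFun f := PowerSeries.mk fun n => MvPowerSeries.coeff (Finsupp.single i n) f
  map_zero' := by ext n; simp
  map_one' := by
    ext n
    rw [PowerSeries.coeff_mk, MvPowerSeries.coeff_one, PowerSeries.coeff_one]
    simp
  map_add' f g := by ext n; simp
  map_mul' f g := by
    ext n
    rw [PowerSeries.coeff_mk, MvPowerSeries.coeff_mul, PowerSeries.coeff_mul,
      Finsupp.antidiagonal_single, Finset.sum_map]
    simp

theorem coeff_axis (i : Fin 2) (n : ℕ) (f : MvPowerSeries (Fin 2) C) :
    PowerSeries.coeff n (axis C i f) = MvPowerSeries.coeff (Finsupp.single i n) f := by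
  simp [axis]

theorem axis_C (i : Fin 2) (c : C) : axis C i (MvPowerSeries.C c) = PowerSeries.C c := by
  ext n
  rw [coeff_axis, MvPowerSeries.coeff_C, PowerSeries.coeff_C]
  simp

theorem axis_X_self (i : Fin 2) : axis C i (MvPowerSeries.X i) = PowerSeries.X := by
  ext n
  rw [coeff_axis, MvPowerSeries.coeff_X, PowerSeries.coeff_X]
  by_cases h : n = 1
  · subst h; simp
  · rw [if_neg h, if_neg]
    intro h'
    exact h (Finsupp.single_injective _ h')

theorem axis_X_ne {i j : Fin 2} (h : i ≠ j) : axis C i (MvPowerSeries.X j) = 0 := by
  ext n
  rw [coeff_axis, MvPowerSeries.coeff_X, if_neg, map_zero]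
  intro h'
  have := DFunLike.congr_fun h' j
  rw [Finsupp.single_eq_same, Finsupp.single_apply, if_neg h] at this
  exact zero_ne_one this

theorem constantCoeff_axis (i : Fin 2) (f : MvPowerSeries (Fin 2) C) :
    PowerSeries.constantCoeff (axis C i f) = MvPowerSeries.constantCoeff f := by
  rw [← PowerSeries.coeff_zero_eq_constantCoeff_apply, coeff_axis, Finsupp.single_zero,
    MvPowerSeries.coeff_zero_eq_constantCoeff_apply]

/-- if the constant `b` is a multiple of a power series with constant term in the maximal ideal
and invertible linear term, then `b = 0`. -/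
theorem eq_zero_of_mul_eq_C [IsLocalRing C] [IsNoetherianRing C] (b : C)
    (p r : PowerSeries C) (hp0 : PowerSeries.constantCoeff p ∈ maximalIdeal C)
    (hp1 : IsUnit (PowerSeries.coeff 1 p)) (h : p * r = PowerSeries.C b) : b = 0 := by
  have key : ∀ n j, PowerSeries.coeff j r ∈ maximalIdeal C ^ n := by
    intro n
    induction n with
    | zero => intro j; simp
    | succ n ih =>
      intro j
      induction j using Nat.strong_induction_on with
      | _ j ihj =>
        have h1 : PowerSeries.coeff (j + 1) (p * r) = 0 := by
          rw [h, PowerSeries.coeff_C, if_neg (Nat.succ_ne_zero j)]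
        rw [PowerSeries.coeff_mul, Finset.Nat.antidiagonal_succ, Finset.sum_cons,
          Finset.sum_map] at h1
        simp only [PowerSeries.coeff_zero_eq_constantCoeff_apply, Function.Embedding.prodMap,
          Function.Embedding.coeFn_mk, Prod.map_fst, Prod.map_snd, Function.Embedding.refl_apply,
          Nat.succ_eq_add_one] at h1
        have h2 : (0, j) ∈ Finset.antidiagonal j := by simp
        rw [← Finset.add_sum_erase _ _ h2] at h1
        simp only [zero_add] at h1
        have h3 : PowerSeries.coeff 1 p * PowerSeries.coeff j r ∈ maximalIdeal C ^ (n + 1) := by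
          have h4 : PowerSeries.coeff 1 p * PowerSeries.coeff j r =
              -(PowerSeries.constantCoeff p * PowerSeries.coeff (j + 1) r) -
              ∑ x ∈ (Finset.antidiagonal j).erase (0, j),
                PowerSeries.coeff (x.1 + 1) p * PowerSeries.coeff x.2 r := by
            linear_combination h1
          rw [h4]
          refine Ideal.sub_mem _ (neg_mem ?_) (Ideal.sum_mem _ ?_)
          · rw [pow_succ, mul_comm (PowerSeries.constantCoeff p)]
            exact Ideal.mul_mem_mul (ih _) hp0
          · intro x hx
            rw [Finset.mem_erase, Finset.mem_antidiagonal] at hx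
            refine Ideal.mul_mem_left _ _ (ihj _ ?_)
            by_contra hcon
            refine hx.1 ?_
            have h5 : x.2 = j := by omega
            have h6 : x.1 = 0 := by omega
            exact Prod.ext h6 h5
        exact (Ideal.unit_mul_mem_iff_mem _ hp1).mp h3
  have hb : b = PowerSeries.constantCoeff p * PowerSeries.constantCoeff r := by
    have := congrArg PowerSeries.constantCoeff h
    rw [map_mul, PowerSeries.constantCoeff_C] at this
    exact this.symm
  have hmem : ∀ n, b ∈ maximalIdeal C ^ n := by
    intro n
    rw [hb]
    refine Ideal.mul_mem_left _ _ ?_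
    rw [← PowerSeries.coeff_zero_eq_constantCoeff_apply]
    exact key n 0
  have h0 : (⨅ i : ℕ, maximalIdeal C ^ i) = ⊥ :=
    Ideal.iInf_pow_eq_bot_of_isLocalRing _ (maximalIdeal.isMaximal C).ne_top
  have : b ∈ (⨅ i : ℕ, maximalIdeal C ^ i) := by
    rw [Ideal.mem_iInf]
    exact hmem
  rw [h0] at this
  exact this

end K934.Node
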