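import Groth.Agent.DualGr.K934.Unique
import Groth.Agent.Ega4A.CplSurj
import Groth.Agent.Ega4C.LocusFibre
import Groth.Agent.CalgB.GRing2
import Groth.Agent.Ega4B.GFTQuot
import Groth.Agent.Sga4h.DivChart
import Groth.Agent.CurvesC.RegNormal

/-!
# A node of thickness `a` over `R` has singular fibre over every prime containing `a`
-/

set_option autoImplicit false

namespace K934.Node

open IsLocalRing

universe u

section axes
variable {R : Type u} [CommRing R] [IsLocalRing R] (a : R) (P : Ideal (Curv2.cpl R))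

/-- restriction to the `i`-th axis modulo `P`. -/
noncomputable def al (i : Fin 2) :
    MvPowerSeries (Fin 2) (Curv2.cpl R) →+* PowerSeries (Curv2.cpl R ⧸ P) :=
  (PowerSeries.map (Ideal.Quotient.mk P)).comp (axis (Curv2.cpl R) i)

theorem al_C (i : Fin 2) (c : Curv2.cpl R) : al P i (MvPowerSeries.C c) =
    PowerSeries.C (Ideal.Quotient.mk P c) := by
  rw [al, RingHom.comp_apply, axis_C, PowerSeries.map_C]

theorem al_X_self (i : Fin 2) : al P i (MvPowerSeries.X i) = PowerSeries.X := by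
  rw [al, RingHom.comp_apply, axis_X_self, PowerSeries.map_X]

theorem al_X_ne {i j : Fin 2} (h : i ≠ j) : al P i (MvPowerSeries.X j) = 0 := by
  rw [al, RingHom.comp_apply, axis_X_ne h, map_zero]

theorem al_rel (ha : algebraMap R (Curv2.cpl R) a ∈ P) (i : Fin 2) : al P i
    (MvPowerSeries.X 0 * MvPowerSeries.X 1 - MvPowerSeries.C (algebraMap R (Curv2.cpl R) a)) = 0 := by
  have h0 : Ideal.Quotient.mk P (algebraMap R (Curv2.cpl R) a) = 0 :=
    Ideal.Quotient.eq_zero_iff_mem.mpr ha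
  rw [map_sub, map_mul, al_C, h0, map_zero, sub_zero]
  fin_cases i
  · change al P 0 (MvPowerSeries.X 0) * al P 0 (MvPowerSeries.X 1) = 0
    rw [al_X_ne P (i := 0) (j := 1) (by decide), mul_zero]
  · change al P 1 (MvPowerSeries.X 0) * al P 1 (MvPowerSeries.X 1) = 0
    rw [al_X_ne P (i := 1) (j := 0) (by decide), zero_mul]

theorem constantCoeff_al (i : Fin 2) (F : MvPowerSeries (Fin 2) (Curv2.cpl R)) :
    PowerSeries.constantCoeff (al P i F) = Ideal.Quotient.mk P (MvPowerSeries.constantCoeff F) := by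
  rw [al, RingHom.comp_apply, ← PowerSeries.coeff_zero_eq_constantCoeff_apply,
    PowerSeries.coeff_map, PowerSeries.coeff_zero_eq_constantCoeff_apply, constantCoeff_axis]

/-- the map from the node ring. -/
noncomputable def nal (ha : algebraMap R (Curv2.cpl R) a ∈ P) (i : Fin 2) :
    DualGr.nodeRing R a →+* PowerSeries (Curv2.cpl R ⧸ P) :=
  Ideal.Quotient.lift _ (al P i) (by
    intro x hx
    rw [Ideal.mem_span_singleton'] at hx
    obtain ⟨t, rfl⟩ := hx
    rw [map_mul, al_rel a P ha, mul_zero])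

theorem nal_mk (ha : algebraMap R (Curv2.cpl R) a ∈ P) (i : Fin 2)
    (F : MvPowerSeries (Fin 2) (Curv2.cpl R)) :
    nal a P ha i (Ideal.Quotient.mk _ F) = al P i F := rfl

theorem constantCoeff_nal (ha : algebraMap R (Curv2.cpl R) a ∈ P) (i j : Fin 2)
    (y : DualGr.nodeRing R a) :
    PowerSeries.constantCoeff (nal a P ha i y) = PowerSeries.constantCoeff (nal a P ha j y) := by
  obtain ⟨F, rfl⟩ := Ideal.Quotient.mk_surjective y
  rw [nal_mk, nal_mk, constantCoeff_al, constantCoeff_al]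

end axes

/-- the key contradiction. -/
theorem false_of_node (R A : Type u) [CommRing R] [IsNoetherianRing R] [IsLocalRing R]
    [IsAdicComplete (maximalIdeal R) R] [CommRing A] [IsLocalRing A] (hG : CAlg.IsGRing A)
    (φ : R →+* A) (a : R) (hnode : DualGr.IsThickNode φ a) (p : Ideal R) [p.IsPrime] (hap : a ∈ p)
    (H : ∀ (q : Ideal A) [q.IsPrime], q.comap φ = p → IsRegularLocalRing
      (Localization.AtPrime q ⧸ (p.map φ).map (algebraMap A (Localization.AtPrime q)))) :
    False := by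
  have hA : IsNoetherianRing A := hG.1
  obtain ⟨e, he⟩ := hnode
  set P : Ideal (Curv2.cpl R) := p.map (algebraMap R (Curv2.cpl R)) with hP
  have hbij : Function.Bijective (algebraMap R (Curv2.cpl R)) :=
    (AdicCompletion.ofAlgEquiv (maximalIdeal R)).bijective
  have hPprime : P.IsPrime := Ideal.map_isPrime_of_surjective hbij.2 (by
    rw [(RingHom.injective_iff_ker_eq_bot _).mp hbij.1]; exact bot_le)
  have hPcomap : P.comap (algebraMap R (Curv2.cpl R)) = p := by
    rw [hP, Ideal.comap_map_of_bijective _ hbij]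
  have haP : algebraMap R (Curv2.cpl R) a ∈ P := Ideal.mem_map_of_mem _ hap
  -- the maps
  let Θ : Fin 2 → (Curv2.cpl A →+* PowerSeries (Curv2.cpl R ⧸ P)) := fun i =>
    (nal a P haP i).comp (e : Curv2.cpl A →+* DualGr.nodeRing R a)
  let θ : Curv2.cpl A →+* (Curv2.cpl R ⧸ P) := PowerSeries.constantCoeff.comp (Θ 0)
  have hθ : ∀ i y, PowerSeries.constantCoeff (Θ i y) = θ y := fun i y =>
    constantCoeff_nal a P haP i 0 _
  have hΘφ : ∀ i r, Θ i (algebraMap A (Curv2.cpl A) (φ r)) =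
      PowerSeries.C (Ideal.Quotient.mk P (algebraMap R (Curv2.cpl R) r)) := by
    intro i r
    change nal a P haP i (e (algebraMap A (Curv2.cpl A) (φ r))) = _
    rw [he, nal_mk, al_C]
  have hθφ : ∀ r, θ (algebraMap A (Curv2.cpl A) (φ r)) =
      Ideal.Quotient.mk P (algebraMap R (Curv2.cpl R) r) := by
    intro r
    rw [← hθ 0, hΘφ, PowerSeries.constantCoeff_C]
  let Q : Ideal (Curv2.cpl A) := RingHom.ker θ
  have hQ : Q.IsPrime := RingHom.ker_isPrime θ
  have hQA : (p.map φ).map (algebraMap A (Curv2.cpl A)) ≤ Q := by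
    rw [Ideal.map_map, Ideal.map_le_iff_le_comap]
    intro r hr
    rw [Ideal.mem_comap]
    change θ (algebraMap A (Curv2.cpl A) (φ r)) = 0
    rw [hθφ, Ideal.Quotient.eq_zero_iff_mem]
    exact Ideal.mem_map_of_mem _ hr
  have hΘker : ∀ i, (p.map φ).map (algebraMap A (Curv2.cpl A)) ≤ RingHom.ker (Θ i) := by
    intro i
    rw [Ideal.map_map, Ideal.map_le_iff_le_comap]
    intro r hr
    rw [Ideal.mem_comap]
    change Θ i (algebraMap A (Curv2.cpl A) (φ r)) = 0
    rw [hΘφ, Ideal.Quotient.eq_zero_iff_mem.mpr (Ideal.mem_map_of_mem _ hr), map_zero]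
  -- the quotient
  set I : Ideal A := p.map φ with hI
  have hIne : I ≠ ⊤ := by
    intro h
    rw [h, Ideal.map_top] at hQA
    exact hQ.ne_top (top_le_iff.mp hQA)
  have : Nontrivial (A ⧸ I) := Ideal.Quotient.nontrivial_iff.mpr hIne
  have hloc : IsLocalRing (A ⧸ I) :=
    IsLocalRing.of_surjective' (Ideal.Quotient.mk I) Ideal.Quotient.mk_surjective
  have hG0 : CAlg.IsGRing (A ⧸ I) := Groth.Agent.Ega4B.GFTQuot.isGRing_of_surjective
    (Ideal.Quotient.mk I) Ideal.Quotient.mk_surjective hG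
  have hreg : CAlg.IsRegularHom (A ⧸ I) (AdicCompletion (maximalIdeal (A ⧸ I)) (A ⧸ I)) :=
    (Groth.Agent.CalgB.GRing2.isGRing_iff_of_isLocalRing (A ⧸ I)).mp hG0
  obtain ⟨f, hf, hfker, hfa⟩ := Groth.Agent.Ega4A.CplSurj.exists_cplMap A (A ⧸ I)
    Ideal.Quotient.mk_surjective
  have hker' : RingHom.ker (algebraMap A (A ⧸ I)) = I := Ideal.mk_ker
  rw [hker'] at hfker
  let Q0 : Ideal (EGA4.Cpl (A ⧸ I)) := Q.map f
  have hQ0 : Q0.IsPrime := Ideal.map_isPrime_of_surjective hf (by rw [hfker]; exact hQA)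
  have hQ0c : Q0.comap f = Q := by
    rw [Ideal.comap_map_of_surjective f hf, ← RingHom.ker_eq_comap_bot, hfker]
    exact sup_eq_left.mpr hQA
  let q : Ideal (A ⧸ I) := Q0.comap (algebraMap (A ⧸ I) (EGA4.Cpl (A ⧸ I)))
  have hq : q.IsPrime := Ideal.comap_isPrime _ _
  let q' : Ideal A := q.comap (Ideal.Quotient.mk I)
  have hq' : q'.IsPrime := Ideal.comap_isPrime _ _
  have hq'p : q'.comap φ = p := by
    ext r
    rw [Ideal.mem_comap, Ideal.mem_comap, Ideal.mem_comap]
    have h1 := hfa (φ r)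
    change algebraMap (A ⧸ I) (EGA4.Cpl (A ⧸ I)) (algebraMap A (A ⧸ I) (φ r)) ∈ Q0 ↔ _
    rw [← h1, ← Ideal.mem_comap, hQ0c]
    change algebraMap A (Curv2.cpl A) (φ r) ∈ RingHom.ker θ ↔ _
    rw [RingHom.mem_ker, hθφ, Ideal.Quotient.eq_zero_iff_mem, ← Ideal.mem_comap, hPcomap]
  have hreg1 : IsRegularLocalRing (Localization.AtPrime q) := by
    obtain ⟨E⟩ := Groth.Agent.Sga4h.DivChart.nonempty_quotient_equiv A I q
    have := H q' hq'p
    exact IsRegularLocalRing.of_ringEquiv E.symm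
  have hN0 : IsNoetherianRing (EGA4.Cpl (A ⧸ I)) :=
    Groth.Agent.Ega4A.CplQuot.isNoetherianRing_cpl (A ⧸ I)
  have hfl : Module.Flat (A ⧸ I) (EGA4.Cpl (A ⧸ I)) := hreg.1
  have hreg2 : IsRegularLocalRing (Localization.AtPrime Q0) :=
    Groth.Agent.Ega4C.LocusFibre.isRegularLocalRing_of_fibLocRing (A ⧸ I) (EGA4.Cpl (A ⧸ I)) Q0
      hreg1 (Groth.Agent.Ega4C.LocusFibre.fibLocRing_regular_of_isRegularHom (A ⧸ I)
        (EGA4.Cpl (A ⧸ I)) hreg Q0)
  have hdom : IsDomain (Localization.AtPrime Q0) :=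
    Groth.Agent.CurvesC.RegNormal.isDomain (Localization.AtPrime Q0)
  -- the two elements
  let x : Fin 2 → Curv2.cpl A := fun i => e.symm (Ideal.Quotient.mk _ (MvPowerSeries.X i))
  have hxy : f (x 0) * f (x 1) = 0 := by
    have h1 : x 0 * x 1 = algebraMap A (Curv2.cpl A) (φ a) := by
      apply e.injective
      rw [he, map_mul, RingEquiv.apply_symm_apply, RingEquiv.apply_symm_apply, ← map_mul,
        Ideal.Quotient.eq]
      exact Ideal.mem_span_singleton_self _
    rw [← map_mul, h1, hfa]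
    have h2 : algebraMap A (A ⧸ I) (φ a) = 0 :=
      Ideal.Quotient.eq_zero_iff_mem.mpr (Ideal.mem_map_of_mem _ hap)
    rw [h2, map_zero]
  have hxne : ∀ i, algebraMap (EGA4.Cpl (A ⧸ I)) (Localization.AtPrime Q0) (f (x i)) ≠ 0 := by
    intro i h
    obtain ⟨⟨s, hs⟩, hsx⟩ := (IsLocalization.map_eq_zero_iff Q0.primeCompl
      (Localization.AtPrime Q0) _).mp h
    obtain ⟨s', rfl⟩ := hf s
    apply hs
    have h1 : s' * x i ∈ RingHom.ker f := by
      rw [RingHom.mem_ker, map_mul]; exact hsx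
    rw [hfker] at h1
    have h2 := hΘker i h1
    rw [RingHom.mem_ker, map_mul] at h2
    have h3 : Θ i (x i) = PowerSeries.X := by
      change nal a P haP i (e (e.symm _)) = _
      rw [RingEquiv.apply_symm_apply, nal_mk, al_X_self]
    rw [h3] at h2
    have h4 : Θ i s' = 0 := by
      rcases mul_eq_zero.mp h2 with h | h
      · exact h
      · exact absurd h PowerSeries.X_ne_zero
    have h5 : s' ∈ Q := by
      change θ s' = 0
      rw [← hθ i, h4, map_zero]
    exact Ideal.mem_map_of_mem f h5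
  have := congrArg (algebraMap (EGA4.Cpl (A ⧸ I)) (Localization.AtPrime Q0)) hxy
  rw [map_mul, map_zero] at this
  rcases mul_eq_zero.mp this with h | h
  · exact hxne 0 h
  · exact hxne 1 h

end K934.Node
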