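import Mathlib.RingTheory.Ideal.UFD
import Mathlib.RingTheory.Polynomial.UniqueFactorization
import Mathlib.Algebra.MvPolynomial.Division
import Mathlib.RingTheory.Polynomial.Basic
import Mathlib.RingTheory.Localization.Away.Basic

/-!
# The ring `C[x, y]/(xy - Δ)` over a factorial Noetherian ring `C`, `Δ` prime
-/

set_option autoImplicit false

namespace K934.PolyNode

universe u
variable (C : Type u) [CommRing C]

/-- the ideal `(xy - Δ)`. -/
noncomputable abbrev rel (Δ : C) : Ideal (MvPolynomial (Fin 2) C) :=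
  Ideal.span {MvPolynomial.X 0 * MvPolynomial.X 1 - MvPolynomial.C Δ}

/-- the ring `C[x, y]/(xy - Δ)`. -/
abbrev N0 (Δ : C) : Type u := MvPolynomial (Fin 2) C ⧸ rel C Δ

variable {C}

/-- restriction to the axis `x = 0`. -/
noncomputable def ax (Δ : C) : MvPolynomial (Fin 2) C →+* Polynomial (C ⧸ Ideal.span {Δ}) :=
  MvPolynomial.eval₂Hom (Polynomial.C.comp (Ideal.Quotient.mk (Ideal.span {Δ})))
    ![0, Polynomial.X]

theorem ax_C (Δ c : C) : ax Δ (MvPolynomial.C c) =
    Polynomial.C (Ideal.Quotient.mk (Ideal.span {Δ}) c) := by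
  simp [ax]

theorem ax_X0 (Δ : C) : ax Δ (MvPolynomial.X 0) = 0 := by
  simp [ax]

theorem ax_X1 (Δ : C) : ax Δ (MvPolynomial.X 1) = Polynomial.X := by
  simp [ax]

theorem mk_self (Δ : C) : Ideal.Quotient.mk (Ideal.span {Δ}) Δ = 0 :=
  Ideal.Quotient.eq_zero_iff_mem.mpr (Ideal.mem_span_singleton_self _)

theorem ker_ax (Δ : C) : RingHom.ker (ax Δ) =
    Ideal.span {MvPolynomial.X 0} ⊔ rel C Δ := by
  apply le_antisymm
  · set K : Ideal (MvPolynomial (Fin 2) C) := Ideal.span {MvPolynomial.X 0} ⊔ rel C Δ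
    have hX0 : Ideal.Quotient.mk K (MvPolynomial.X 0) = 0 :=
      Ideal.Quotient.eq_zero_iff_mem.mpr (Ideal.mem_sup_left (Ideal.mem_span_singleton_self _))
    have hΔ : Ideal.Quotient.mk K (MvPolynomial.C Δ) = 0 := by
      have h1 : Ideal.Quotient.mk K (MvPolynomial.X 0 * MvPolynomial.X 1 - MvPolynomial.C Δ) = 0 :=
        Ideal.Quotient.eq_zero_iff_mem.mpr (Ideal.mem_sup_right (Ideal.mem_span_singleton_self _))
      rw [map_sub, map_mul, hX0, zero_mul, zero_sub, neg_eq_zero] at h1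
      exact h1
    let j0 : (C ⧸ Ideal.span {Δ}) →+* (MvPolynomial (Fin 2) C ⧸ K) :=
      Ideal.Quotient.lift _ ((Ideal.Quotient.mk K).comp MvPolynomial.C) (by
        intro c hc
        rw [Ideal.mem_span_singleton'] at hc
        obtain ⟨t, rfl⟩ := hc
        rw [RingHom.comp_apply, map_mul, map_mul, hΔ, mul_zero])
    let j : Polynomial (C ⧸ Ideal.span {Δ}) →+* (MvPolynomial (Fin 2) C ⧸ K) :=
      Polynomial.eval₂RingHom j0 (Ideal.Quotient.mk K (MvPolynomial.X 1))
    have hj : j.comp (ax Δ) = Ideal.Quotient.mk K := by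
      apply MvPolynomial.ringHom_ext
      · intro c
        rw [RingHom.comp_apply, ax_C]
        simp [j, j0]
      · intro i
        fin_cases i
        · change j (ax Δ (MvPolynomial.X 0)) = Ideal.Quotient.mk K (MvPolynomial.X 0)
          rw [ax_X0, map_zero, hX0]
        · change j (ax Δ (MvPolynomial.X 1)) = Ideal.Quotient.mk K (MvPolynomial.X 1)
          rw [ax_X1]
          simp [j]
    intro F hF
    rw [RingHom.mem_ker] at hF
    rw [← Ideal.Quotient.eq_zero_iff_mem, ← hj, RingHom.comp_apply, hF, map_zero]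
  · rw [sup_le_iff, Ideal.span_singleton_le_iff_mem, Ideal.span_singleton_le_iff_mem,
      RingHom.mem_ker, RingHom.mem_ker, ax_X0]
    refine ⟨rfl, ?_⟩
    rw [map_sub, map_mul, ax_X0, zero_mul, ax_C, mk_self, map_zero, sub_zero]

variable [IsDomain C]

/-- `x` is a nonzerodivisor modulo `xy - Δ`. -/
theorem mem_rel_of_mul_X0 (Δ : C) (hΔ : Δ ≠ 0) (F : MvPolynomial (Fin 2) C)
    (h : F * MvPolynomial.X 0 ∈ rel C Δ) : F ∈ rel C Δ := by
  rw [Ideal.mem_span_singleton'] at h ⊢
  obtain ⟨H, hH⟩ := h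
  have hp : Prime (MvPolynomial.X 0 : MvPolynomial (Fin 2) C) := MvPolynomial.X_prime
  have h1 : (MvPolynomial.X 0 : MvPolynomial (Fin 2) C) ∣
      H * (MvPolynomial.X 0 * MvPolynomial.X 1 - MvPolynomial.C Δ) := by
    rw [hH]; exact dvd_mul_left _ _
  rcases hp.dvd_or_dvd h1 with h2 | h2
  · obtain ⟨H', rfl⟩ := h2
    refine ⟨H', mul_right_cancel₀ hp.ne_zero ?_⟩
    rw [← hH]; ring
  · exfalso
    have h3 : (MvPolynomial.X 0 : MvPolynomial (Fin 2) C) ∣ MvPolynomial.C Δ := by
      have := dvd_sub (dvd_mul_right (MvPolynomial.X 0 : MvPolynomial (Fin 2) C)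
        (MvPolynomial.X 1)) h2
      simpa using this
    obtain ⟨G, hG⟩ := h3
    have := congrArg (MvPolynomial.eval (0 : Fin 2 → C)) hG
    simp at this
    exact hΔ this

/-- the Laurent polynomial ring. -/
abbrev M (C : Type u) [CommRing C] : Type u := Localization.Away (Polynomial.X : Polynomial C)

/-- the structure map. -/
noncomputable abbrev am (C : Type u) [CommRing C] : Polynomial C →+* M C :=
  algebraMap (Polynomial C) (M C)

/-- the inverse of the variable. -/
noncomputable abbrev inv (C : Type u) [CommRing C] : M C :=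
  IsLocalization.Away.invSelf (S := M C) (Polynomial.X : Polynomial C)

omit [IsDomain C] in
theorem X_mul_inv : am C Polynomial.X * inv C = 1 := IsLocalization.Away.mul_invSelf _

/-- auxiliary map. -/
noncomputable def toMaux (Δ : C) : MvPolynomial (Fin 2) C →+* M C :=
  MvPolynomial.eval₂Hom ((am C).comp Polynomial.C)
    ![am C Polynomial.X, am C (Polynomial.C Δ) * inv C]

omit [IsDomain C] in
theorem toMaux_rel (Δ : C) :
    toMaux Δ (MvPolynomial.X 0 * MvPolynomial.X 1 - MvPolynomial.C Δ) = 0 := by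
  simp only [toMaux, MvPolynomial.coe_eval₂Hom, MvPolynomial.eval₂_sub, MvPolynomial.eval₂_mul,
    MvPolynomial.eval₂_X, MvPolynomial.eval₂_C, Matrix.cons_val_zero, Matrix.cons_val_one,
    RingHom.comp_apply]
  rw [mul_left_comm, X_mul_inv, mul_one, sub_self]

/-- the map `C[x,y]/(xy - Δ) → C[x, 1/x]`. -/
noncomputable def toM (Δ : C) : N0 C Δ →+* M C :=
  Ideal.Quotient.lift _ (toMaux Δ) (by
    intro F hF
    rw [Ideal.mem_span_singleton'] at hF
    obtain ⟨t, rfl⟩ := hF
    rw [map_mul, toMaux_rel, mul_zero])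

omit [IsDomain C] in
theorem toM_C (Δ c : C) : toM Δ (Ideal.Quotient.mk _ (MvPolynomial.C c)) =
    am C (Polynomial.C c) := by
  simp [toM, toMaux]

omit [IsDomain C] in
theorem toM_X0 (Δ : C) : toM Δ (Ideal.Quotient.mk _ (MvPolynomial.X 0)) =
    am C Polynomial.X := by
  simp [toM, toMaux]

omit [IsDomain C] in
theorem toM_X1 (Δ : C) : toM Δ (Ideal.Quotient.mk _ (MvPolynomial.X 1)) =
    am C (Polynomial.C Δ) * inv C := by
  simp [toM, toMaux]

/-- the class of `x`. -/
noncomputable abbrev x0 (Δ : C) : N0 C Δ := Ideal.Quotient.mk _ (MvPolynomial.X 0)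

/-- the class of `y`. -/
noncomputable abbrev x1 (Δ : C) : N0 C Δ := Ideal.Quotient.mk _ (MvPolynomial.X 1)

omit [IsDomain C] in
theorem x0_mul_x1 (Δ : C) : x0 Δ * x1 Δ = Ideal.Quotient.mk _ (MvPolynomial.C Δ) := by
  rw [← map_mul, Ideal.Quotient.eq]
  exact Ideal.mem_span_singleton_self _

/-- the localization at `x`. -/
abbrev L (Δ : C) : Type u := Localization.Away (x0 Δ)

/-- structure map -/
noncomputable abbrev al (Δ : C) : N0 C Δ →+* L Δ := algebraMap (N0 C Δ) (L Δ)

/-- one direction. -/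
noncomputable def toMl (Δ : C) : L Δ →+* M C :=
  IsLocalization.Away.lift (S := L Δ) (x0 Δ) (g := toM Δ) (by
      rw [toM_X0]; exact IsLocalization.Away.algebraMap_isUnit _)

omit [IsDomain C] in
theorem toMl_al (Δ : C) (z : N0 C Δ) : toMl Δ (al Δ z) = toM Δ z :=
  IsLocalization.Away.lift_eq _ _ _

/-- auxiliary -/
noncomputable def ofMaux (Δ : C) : Polynomial C →+* L Δ :=
  Polynomial.eval₂RingHom ((al Δ).comp ((Ideal.Quotient.mk (rel C Δ)).comp MvPolynomial.C))
    (al Δ (x0 Δ))

omit [IsDomain C] in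
theorem ofMaux_C (Δ c : C) : ofMaux Δ (Polynomial.C c) =
    al Δ (Ideal.Quotient.mk _ (MvPolynomial.C c)) := by
  simp [ofMaux]

omit [IsDomain C] in
theorem ofMaux_X (Δ : C) : ofMaux Δ Polynomial.X = al Δ (x0 Δ) := by
  simp [ofMaux]

/-- other direction. -/
noncomputable def ofM (Δ : C) : M C →+* L Δ :=
  IsLocalization.Away.lift (S := M C) (Polynomial.X : Polynomial C) (g := ofMaux Δ) (by
      rw [ofMaux_X]; exact IsLocalization.Away.algebraMap_isUnit _)

omit [IsDomain C] in
theorem ofM_am (Δ : C) (z : Polynomial C) : ofM Δ (am C z) = ofMaux Δ z :=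
  IsLocalization.Away.lift_eq _ _ _

/-- the localizations agree. -/
noncomputable def equivM (Δ : C) : L Δ ≃+* M C :=
  RingEquiv.ofRingHom (toMl Δ) (ofM Δ)
    (by
      apply IsLocalization.ringHom_ext (Submonoid.powers (Polynomial.X : Polynomial C))
      apply Polynomial.ringHom_ext
      · intro c
        change toMl Δ (ofM Δ (am C (Polynomial.C c))) = am C (Polynomial.C c)
        rw [ofM_am, ofMaux_C, toMl_al, toM_C]
      · change toMl Δ (ofM Δ (am C Polynomial.X)) = am C Polynomial.X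
        rw [ofM_am, ofMaux_X, toMl_al, toM_X0])
    (by
      apply IsLocalization.ringHom_ext (Submonoid.powers (x0 Δ))
      apply Ideal.Quotient.ringHom_ext
      apply MvPolynomial.ringHom_ext
      · intro c
        change ofM Δ (toMl Δ (al Δ (Ideal.Quotient.mk _ (MvPolynomial.C c)))) =
          al Δ (Ideal.Quotient.mk _ (MvPolynomial.C c))
        rw [toMl_al, toM_C, ofM_am, ofMaux_C]
      · intro i
        have h0 : ofM Δ (toMl Δ (al Δ (x0 Δ))) = al Δ (x0 Δ) := by
          rw [toMl_al, toM_X0, ofM_am, ofMaux_X]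
        fin_cases i
        · exact h0
        · change ofM Δ (toMl Δ (al Δ (x1 Δ))) = al Δ (x1 Δ)
          have hu : IsUnit (al Δ (x0 Δ)) := IsLocalization.Away.algebraMap_isUnit _
          apply hu.mul_left_cancel
          have h1 : ofM Δ (toMl Δ (al Δ (x0 Δ))) * ofM Δ (toMl Δ (al Δ (x1 Δ))) =
              al Δ (x0 Δ) * al Δ (x1 Δ) := by
            rw [← map_mul, ← map_mul, ← map_mul, x0_mul_x1, toMl_al, toM_C, ofM_am, ofMaux_C]
          rw [h0] at h1
          exact h1)

theorem isDomain_M : IsDomain (M C) :=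
  IsLocalization.isDomain_localization (powers_le_nonZeroDivisors_of_noZeroDivisors
    Polynomial.X_ne_zero)

theorem al_injective (Δ : C) (hΔ : Δ ≠ 0) : Function.Injective (al Δ) := by
  have hreg : ∀ z : N0 C Δ, z * x0 Δ = 0 → z = 0 := by
    intro z hz
    obtain ⟨F, rfl⟩ := Ideal.Quotient.mk_surjective z
    rw [← map_mul, Ideal.Quotient.eq_zero_iff_mem] at hz
    exact Ideal.Quotient.eq_zero_iff_mem.mpr (mem_rel_of_mul_X0 Δ hΔ F hz)
  apply IsLocalization.injective (L Δ) (M := Submonoid.powers (x0 Δ))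
  rintro _ ⟨n, rfl⟩
  apply pow_mem
  rw [mem_nonZeroDivisors_iff_right]
  exact hreg

theorem isDomain_N0 (Δ : C) (hΔ : Δ ≠ 0) : IsDomain (N0 C Δ) := by
  have h1 : IsDomain (M C) := isDomain_M
  have h2 : IsDomain (L Δ) := (equivM Δ).injective.isDomain (equivM Δ).toRingHom
  exact (al_injective Δ hΔ).isDomain (al Δ)

theorem prime_x0 (Δ : C) (hΔ : Prime Δ) : Prime (x0 Δ) := by
  have hd := isDomain_N0 Δ hΔ.ne_zero
  have h0 : x0 Δ ≠ 0 := by
    intro h
    have := congrArg (toM Δ) h
    rw [toM_X0, map_zero] at this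
    have h1 : IsDomain (M C) := isDomain_M
    have := X_mul_inv (C := C)
    rw [‹am C Polynomial.X = 0›, zero_mul] at this
    exact zero_ne_one this
  have hp1 : (Ideal.span {Δ}).IsPrime := (Ideal.span_singleton_prime hΔ.ne_zero).mpr hΔ
  have hp2 : (RingHom.ker (ax Δ)).IsPrime := RingHom.ker_isPrime (ax Δ)
  rw [← Ideal.span_singleton_prime h0]
  have h3 : Ideal.span {x0 Δ} = (RingHom.ker (ax Δ)).map (Ideal.Quotient.mk (rel C Δ)) := by
    rw [ker_ax, Ideal.map_sup, Ideal.map_quotient_self, sup_bot_eq, Ideal.map_span,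
      Set.image_singleton]
  rw [h3]
  apply Ideal.map_isPrime_of_surjective Ideal.Quotient.mk_surjective
  rw [Ideal.mk_ker, ker_ax]
  exact le_sup_right

theorem ufd_N0 [IsNoetherianRing C] [UniqueFactorizationMonoid C] (Δ : C) (hΔ : Prime Δ) :
    ∃ _ : IsDomain (N0 C Δ), UniqueFactorizationMonoid (N0 C Δ) := by
  have hd := isDomain_N0 Δ hΔ.ne_zero
  refine ⟨hd, ?_⟩
  have h1 : IsDomain (M C) := isDomain_M
  have h2 : UniqueFactorizationMonoid (M C) :=
    UniqueFactorizationMonoid.of_isLocalization (Submonoid.powers (Polynomial.X : Polynomial C)) _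
  rw [UniqueFactorizationMonoid.iff_localizationAway_of_prime (prime_x0 Δ hΔ)]
  exact MulEquiv.uniqueFactorizationMonoid (equivM Δ).symm.toMulEquiv h2

end K934.PolyNode
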