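import Groth.Agent.DualGr.K934.SerUfd

/-!
# `C[[x, y]]/(xy - Δ)` is factorial for `C` a complete regular local ring and `Δ` prime
-/

set_option autoImplicit false

namespace K934.SerNode

open IsLocalRing K934.Node K934.PolyNode

universe u

section general

/-- the colon ideal `(e : q)`. -/
def col {N : Type*} [CommRing N] (e : N) (q : Ideal N) : Ideal N where
  carrier := {x | ∀ y ∈ q, e ∣ x * y}
  add_mem' := by
    intro a b ha hb y hy
    rw [add_mul]
    exact dvd_add (ha y hy) (hb y hy)
  zero_mem' := by intro y _; rw [zero_mul]; exact dvd_zero _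
  smul_mem' := by
    intro c x hx y hy
    rw [smul_eq_mul, mul_assoc]
    exact (hx y hy).mul_left c

theorem mem_col {N : Type*} [CommRing N] {e : N} {q : Ideal N} {x : N} :
    x ∈ col e q ↔ ∀ y ∈ q, e ∣ x * y := Iff.rfl

variable {N : Type*} [CommRing N] [IsDomain N] [IsNoetherianRing N]

/-- the elements of `q` which do not generate `q` at `p`. -/
noncomputable def bad (q p : Ideal N) [p.IsPrime] : Ideal N :=
  q ⊓ (maximalIdeal (Localization.AtPrime p) *
    q.map (algebraMap N (Localization.AtPrime p))).comap (algebraMap N (Localization.AtPrime p))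

theorem not_le_bad (q p : Ideal N) [p.IsPrime] (hq : q ≠ ⊥) : ¬ q ≤ bad q p := by
  intro h
  have h1 : q.map (algebraMap N (Localization.AtPrime p)) ≤
      maximalIdeal (Localization.AtPrime p) • q.map (algebraMap N (Localization.AtPrime p)) := by
    rw [Ideal.map_le_iff_le_comap]
    exact h.trans inf_le_right
  have hN : IsNoetherianRing (Localization.AtPrime p) :=
    IsLocalization.isNoetherianRing p.primeCompl _ ‹_›
  have h2 := Submodule.eq_bot_of_le_smul_of_le_jacobson_bot (maximalIdeal (Localization.AtPrime p))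
    (q.map (algebraMap N (Localization.AtPrime p))) (IsNoetherian.noetherian _) h1
    (by rw [jacobson_eq_maximalIdeal ⊥ bot_ne_top])
  have hinj : Function.Injective (algebraMap N (Localization.AtPrime p)) :=
    IsLocalization.injective (Localization.AtPrime p) p.primeCompl_le_nonZeroDivisors
  rw [Ideal.map_eq_bot_iff_of_injective hinj] at h2
  exact hq h2

/-- a non-bad element generates at `p`. -/
theorem exists_notMem_col (q p : Ideal N) [p.IsPrime]
    (hp : (q.map (algebraMap N (Localization.AtPrime p))).IsPrincipal) (e : N) (he : e ∈ q)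
    (hbad : e ∉ bad q p) : ¬ col e q ≤ p := by
  obtain ⟨g, hg⟩ := hp
  change _ = Ideal.span {g} at hg
  have hgen : ∀ y ∈ q, algebraMap N (Localization.AtPrime p) e ∣
      algebraMap N (Localization.AtPrime p) y := by
    have h1 : algebraMap N (Localization.AtPrime p) e ∈ Ideal.span {g} := by
      rw [← hg]; exact Ideal.mem_map_of_mem _ he
    obtain ⟨t, ht⟩ := Ideal.mem_span_singleton'.mp h1
    have htu : IsUnit t := by
      by_contra hcon
      apply hbad
      refine ⟨he, ?_⟩
      change algebraMap N (Localization.AtPrime p) e ∈ maximalIdeal (Localization.AtPrime p) *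
        q.map (algebraMap N (Localization.AtPrime p))
      rw [← ht]
      refine Ideal.mul_mem_mul ((mem_maximalIdeal t).mpr hcon) ?_
      rw [hg]
      exact Ideal.mem_span_singleton_self g
    intro y hy
    have h2 : algebraMap N (Localization.AtPrime p) y ∈ Ideal.span {g} := by
      rw [← hg]; exact Ideal.mem_map_of_mem _ hy
    rw [Ideal.mem_span_singleton] at h2
    rw [← ht]
    exact (htu.mul_left_dvd).mpr h2
  have hinj : Function.Injective (algebraMap N (Localization.AtPrime p)) :=
    IsLocalization.injective (Localization.AtPrime p) p.primeCompl_le_nonZeroDivisors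
  have hs : ∀ y : N, ∃ s : N, y ∈ q → s ∉ p ∧ e ∣ s * y := by
    intro y
    by_cases hy : y ∈ q
    · obtain ⟨z, hz⟩ := hgen y hy
      obtain ⟨⟨r, s⟩, hrs⟩ := IsLocalization.surj p.primeCompl z
      refine ⟨s, fun _ => ⟨s.2, r, hinj ?_⟩⟩
      rw [map_mul, map_mul, hz]
      simp only at hrs
      rw [← hrs]
      ring
    · exact ⟨1, fun h => absurd h hy⟩
  choose s hs using hs
  obtain ⟨n, k, hk⟩ := Submodule.fg_iff_exists_fin_generating_family.mp
    (IsNoetherian.noetherian q)
  have hkq : ∀ l, k l ∈ q := fun l => by rw [← hk]; exact Submodule.subset_span ⟨l, rfl⟩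
  intro hle
  have h1 : (∏ l, s (k l)) ∈ col e q := by
    rw [mem_col]
    intro y hy
    rw [← hk] at hy
    refine Submodule.span_induction ?_ ?_ ?_ ?_ hy
    · rintro _ ⟨l, rfl⟩
      have h2 : e ∣ s (k l) * k l := (hs (k l) (hkq l)).2
      exact h2.trans (mul_dvd_mul_right (Finset.dvd_prod_of_mem _ (Finset.mem_univ l)) _)
    · rw [mul_zero]; exact dvd_zero _
    · intro a b _ _ ha hb
      rw [mul_add]; exact dvd_add ha hb
    · intro c x _ hx
      rw [smul_eq_mul, mul_left_comm]
      exact hx.mul_left c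
  have h2 := hle h1
  rw [Ideal.IsPrime.prod_mem_iff] at h2
  obtain ⟨l, -, hl⟩ := h2
  exact (hs (k l) (hkq l)).1 hl

end general

/-- **Factoriality** of the node ring of prime thickness over a complete regular local ring. -/
theorem ufd_NN {C : Type u} [CommRing C] [IsRegularLocalRing C]
    [IsAdicComplete (maximalIdeal C) C] (Δ : C) (hΔ : Prime Δ) :
    ∃ _ : IsDomain (NN Δ), UniqueFactorizationMonoid (NN Δ) := by
  obtain ⟨hC, hCU⟩ := Groth.Agent.S2821.result C
  have hm := mem_m Δ hΔ
  have hN : IsDomain (NN Δ) := isDomain_NN Δ hΔ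
  have hloc : IsLocalRing (NN Δ) := isLocalRing_NN Δ hΔ
  obtain ⟨hB, hBU⟩ := ufd_N0 Δ hΔ
  have hfl : Module.Flat (N0 C Δ) (NN Δ) := flat_N0_NN C Δ
  refine ⟨hN, ?_⟩
  refine UniqueFactorizationMonoid.of_forall_isPrincipal_of_height_eq_one fun q hq h1 => ?_
  have hq0 : q ≠ ⊥ := q.ne_bot_of_height_eq_one h1
  have hex : ∃ e ∈ q, ∀ i : Fin 2, e ∉ bad q (pp Δ hm i) := by
    by_contra hcon
    push Not at hcon
    have h2 : (q : Set (NN Δ)) ⊆ (bad q (pp Δ hm 0) : Set (NN Δ)) ∪ bad q (pp Δ hm 1) := by
      intro e he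
      obtain ⟨i, hi⟩ := hcon e he
      fin_cases i
      · exact Or.inl hi
      · exact Or.inr hi
    rcases (Ideal.subset_union).mp h2 with h3 | h3
    · exact not_le_bad q _ hq0 h3
    · exact not_le_bad q _ hq0 h3
  obtain ⟨e, heq, he⟩ := hex
  have he0 : e ≠ 0 := by
    rintro rfl
    exact he 0 (Ideal.zero_mem _)
  have hI : ∀ i, ¬ col e q ≤ pp Δ hm i := fun i =>
    exists_notMem_col q (pp Δ hm i) (isPrincipal_map Δ hΔ i q h1) e heq (he i)
  have hJ := eq_map_comap Δ hm hloc (cc_mem Δ hΔ hloc) (xx_mem Δ hΔ hloc) (col e q) hI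
  have hJ0 : (col e q).comap (io Δ) ≠ ⊥ := by
    intro h
    rw [h, Ideal.map_bot] at hJ
    have : e ∈ col e q := by
      rw [mem_col]
      intro y _
      exact dvd_mul_right e y
    rw [← hJ] at this
    exact he0 this
  obtain ⟨h, hh⟩ := UfdFlat.isPrincipal_of_extended (B := N0 C Δ) (N := NN Δ) e he0 q
    ((col e q).comap (io Δ)) (fun x => by rw [hJ, mem_col]) hJ0
  rw [hJ] at hh
  change _ = Ideal.span {h} at hh
  refine UfdFlat.isPrincipal_of_colon e he0 q h1 heq h fun x => ?_
  rw [← Ideal.mem_span_singleton, ← hh, mem_col]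

end K934.SerNode
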