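import Groth.Agent.Ega4B.Zariski
import Mathlib.RingTheory.Ideal.UFD
import Mathlib.RingTheory.Ideal.AssociatedPrime.Basic

/-!
# Divisorial ideals extended from a factorial ring along a flat map are principal
-/

set_option autoImplicit false

namespace K934.UfdFlat

section ufd
variable {B : Type*} [CommRing B] [IsDomain B] [UniqueFactorizationMonoid B]

theorem exists_colon_single (b k : B) (hb : b ≠ 0) : ∃ g : B, ∀ x, b ∣ x * k ↔ g ∣ x := by
  obtain ⟨g', k', c, hrel, hg', hb'⟩ := UniqueFactorizationMonoid.exists_reduced_factors b hb k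
  have hc : c ≠ 0 := fun h => hb (by rw [← hg', h, zero_mul])
  refine ⟨g', fun x => ⟨fun h => ?_, fun h => ?_⟩⟩
  · rw [← hg', ← hb', mul_left_comm x c, mul_dvd_mul_iff_left hc] at h
    exact hrel.dvd_of_dvd_mul_right h
  · rw [← hg', ← hb', mul_left_comm x c, mul_dvd_mul_iff_left hc]
    exact h.mul_right k'

/-- colon ideals `(b : K)` are principal in a factorial domain. -/
theorem exists_colon (b : B) (hb : b ≠ 0) {n : ℕ} (k : Fin n → B) :
    ∃ g : B, ∀ x, (∀ j, b ∣ x * k j) ↔ g ∣ x := by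
  induction n with
  | zero => exact ⟨1, fun x => ⟨fun _ => one_dvd x, fun _ j => Fin.elim0 j⟩⟩
  | succ n ih =>
    obtain ⟨g1, h1⟩ := ih (fun j => k j.castSucc)
    obtain ⟨g2, h2⟩ := exists_colon_single b (k (Fin.last n)) hb
    let _ : GCDMonoid B := UniqueFactorizationMonoid.toGCDMonoid B
    refine ⟨GCDMonoid.lcm g1 g2, fun x => ?_⟩
    rw [lcm_dvd_iff, ← h1, ← h2]
    constructor
    · intro h
      exact ⟨fun j => h _, h _⟩
    · rintro ⟨h, h'⟩ j
      refine Fin.lastCases ?_ (fun j => ?_) j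
      · exact h'
      · exact h j

end ufd

section flat

variable {B N : Type*} [CommRing B] [IsDomain B] [UniqueFactorizationMonoid B] [IsNoetherianRing B]
  [CommRing N] [IsDomain N] [Algebra B N] [Module.Flat B N]

theorem dvd_of_flat {n : ℕ} (b : B) (k : Fin n → B) (g : B)
    (hg : ∀ x, (∀ j, b ∣ x * k j) → g ∣ x) (y : N)
    (hy : ∀ j, algebraMap B N b ∣ y * algebraMap B N (k j)) : algebraMap B N g ∣ y := by
  choose z hz using hy
  obtain ⟨m, c, d, hyc, hc⟩ := Groth.Agent.Ega4B.Zariski.exists_colon_of_flat k b y z (by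
    intro j
    rw [Algebra.smul_def, Algebra.smul_def, mul_comm, hz])
  rw [hyc]
  refine Finset.dvd_sum fun i _ => ?_
  rw [Algebra.smul_def]
  refine Dvd.dvd.mul_right ?_ _
  refine map_dvd _ (hg _ fun j => ?_)
  have := hc i j
  rw [Ideal.mem_span_singleton] at this
  rwa [mul_comm]

/-- An ideal `(e : 𝔮)` of `N` which is extended from the factorial ring `B` is principal. -/
theorem isPrincipal_of_extended (e : N) (he : e ≠ 0) (𝔮 : Ideal N) (J : Ideal B)
    (hJ : ∀ x, x ∈ J.map (algebraMap B N) ↔ ∀ q ∈ 𝔮, e ∣ x * q)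
    (hJ0 : J ≠ ⊥) : (J.map (algebraMap B N)).IsPrincipal := by
  have hinj : ∀ b : B, b ≠ 0 → algebraMap B N b ≠ 0 := by
    intro b hb h
    have h1 : IsSMulRegular N b := Module.Flat.isSMulRegular_of_isRegular (IsRegular.of_ne_zero hb)
    have h2 : b • (1 : N) = b • 0 := by
      rw [Algebra.smul_def, h, smul_zero, zero_mul]
    exact one_ne_zero (h1 h2)
  obtain ⟨b, hbJ, hb⟩ := (Submodule.ne_bot_iff J).mp hJ0
  obtain ⟨n, k, hk⟩ := Submodule.fg_iff_exists_fin_generating_family.mp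
    (IsNoetherian.noetherian J)
  have hkJ : ∀ j, k j ∈ J := fun j => by rw [← hk]; exact Submodule.subset_span ⟨j, rfl⟩
  obtain ⟨g1, hg1⟩ := exists_colon b hb k
  have h1 : g1 ∣ b := (hg1 b).mp fun j => dvd_mul_right b (k j)
  obtain ⟨g2, hg2⟩ := h1
  have hg10 : algebraMap B N g1 ≠ 0 := hinj _ (fun h => hb (by rw [hg2, h, zero_mul]))
  refine ⟨algebraMap B N g2, le_antisymm ?_ ?_⟩
  · rw [Ideal.map_le_iff_le_comap, ← hk]
    change Ideal.span (Set.range k) ≤ _
    rw [Ideal.span_le]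
    rintro _ ⟨j, rfl⟩
    have h3 : b ∣ g1 * k j := (hg1 g1).mpr dvd_rfl j
    have h4 : g2 ∣ k j := by
      rw [hg2] at h3
      exact (mul_dvd_mul_iff_left (fun h => hb (by rw [hg2, h, zero_mul]))).mp h3
    rw [SetLike.mem_coe, Ideal.mem_comap]
    exact Ideal.mem_span_singleton.mpr (map_dvd _ h4)
  · rw [Submodule.span_singleton_le_iff_mem, hJ]
    intro q hq
    obtain ⟨y, hy⟩ := (hJ _).mp (Ideal.mem_map_of_mem _ hbJ) q hq
    have h5 : ∀ j, algebraMap B N b ∣ y * algebraMap B N (k j) := by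
      intro j
      obtain ⟨z, hz⟩ := (hJ _).mp (Ideal.mem_map_of_mem _ (hkJ j)) q hq
      refine ⟨z, mul_left_cancel₀ he ?_⟩
      calc e * (y * algebraMap B N (k j)) = (e * y) * algebraMap B N (k j) := by ring
        _ = (algebraMap B N b * q) * algebraMap B N (k j) := by rw [hy]
        _ = algebraMap B N b * (algebraMap B N (k j) * q) := by ring
        _ = e * (algebraMap B N b * z) := by rw [hz]; ring
    obtain ⟨y', hy'⟩ := dvd_of_flat b k g1 (fun x hx => (hg1 x).mp hx) y h5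
    refine ⟨y', mul_left_cancel₀ hg10 ?_⟩
    calc algebraMap B N g1 * (algebraMap B N g2 * q) = (algebraMap B N b) * q := by
          rw [hg2, map_mul]; ring
      _ = e * y := hy
      _ = algebraMap B N g1 * (e * y') := by rw [hy']; ring

end flat

/-- if `(e : 𝔮)` is principal for a height one prime `𝔮 ∋ e ≠ 0`, then `𝔮` is principal. -/
theorem isPrincipal_of_colon {N : Type*} [CommRing N] [IsDomain N] [IsNoetherianRing N]
    (e : N) (he : e ≠ 0) (𝔮 : Ideal N) [h𝔮 : 𝔮.IsPrime] (hq : 𝔮.height = 1) (heq : e ∈ 𝔮)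
    (h : N) (hI : ∀ x, h ∣ x ↔ ∀ q ∈ 𝔮, e ∣ x * q) : 𝔮.IsPrincipal := by
  obtain ⟨h', hh'⟩ : h ∣ e := (hI e).mpr fun q _ => dvd_mul_right e q
  have h0 : h ≠ 0 := fun h => he (by rw [hh', h, zero_mul])
  have h1 : 𝔮 ≤ Ideal.span {h'} := by
    intro x hx
    rw [Ideal.mem_span_singleton]
    have := (hI h).mp dvd_rfl x hx
    rw [hh'] at this
    exact (mul_dvd_mul_iff_left h0).mp this
  by_cases hu : IsUnit h'
  · exfalso
    -- `𝔮` is associated to `N/e`
    have h2 : ∀ x, e ∣ x ↔ ∀ q ∈ 𝔮, e ∣ x * q := by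
      intro x
      rw [← hI, hh']
      exact (hu.mul_right_dvd)
    have hmin : 𝔮 ∈ (Ideal.span {e}).minimalPrimes := by
      refine ⟨⟨h𝔮, (Ideal.span_singleton_le_iff_mem _).mpr heq⟩, ?_⟩
      rintro P ⟨hP, hPe⟩ hPq
      by_contra hcon
      have hlt : P < 𝔮 := lt_of_le_not_ge hPq hcon
      have : P.height < 𝔮.height := Ideal.height_strict_mono_of_isPrime_of_isPrime hlt
      rw [hq, ENat.lt_one_iff_eq_zero, Ideal.height_eq_zero_iff,
        IsDomain.minimalPrimes_eq_singleton_bot, Set.mem_singleton_iff] at this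
      rw [this] at hPe
      exact he ((Ideal.mem_bot).mp (hPe (Ideal.mem_span_singleton_self e)))
    have hass : IsAssociatedPrime 𝔮 (N ⧸ Ideal.span {e}) := by
      have h3 : (Module.annihilator N (N ⧸ Ideal.span {e})) = Ideal.span {e} :=
        Ideal.annihilator_quotient
      exact Module.associatedPrimes.minimalPrimes_annihilator_subset_associatedPrimes N _
        (by rw [h3]; exact hmin)
    obtain ⟨-, x, hx⟩ := isAssociatedPrime_iff.mp hass
    obtain ⟨x, rfl⟩ := Ideal.Quotient.mk_surjective x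
    have hx' : ∀ r, r ∈ 𝔮 ↔ e ∣ r * x := by
      intro r
      rw [hx, Submodule.mem_colon_singleton, Submodule.mem_bot, ← Ideal.mem_span_singleton,
        ← Ideal.Quotient.eq_zero_iff_mem, map_mul]
      rfl
    have h4 : e ∣ x := (h2 x).mpr fun q hq => by rw [mul_comm]; exact (hx' q).mp hq
    have h5 : (1 : N) ∈ 𝔮 := (hx' 1).mpr (by rw [one_mul]; exact h4)
    exact h𝔮.ne_top ((Ideal.eq_top_iff_one _).mpr h5)
  · have hne : Ideal.span {h'} ≠ ⊤ := by
      intro h; exact hu (Ideal.span_singleton_eq_top.mp h)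
    obtain ⟨M, hM, hM'⟩ := Ideal.exists_le_maximal _ hne
    have hMp : M.IsPrime := hM.isPrime
    obtain ⟨P, hP, hP'⟩ := Ideal.exists_minimalPrimes_le hM'
    have hPp : P.IsPrime := hP.1.1
    have hle : 𝔮 ≤ P := h1.trans hP.1.2
    have hPh : P.height ≤ 1 := Ideal.height_le_one_of_isPrincipal_of_mem_minimalPrimes _ P hP
    have heq' : 𝔮 = P := by
      by_contra hcon
      have := Ideal.height_strict_mono_of_isPrime_of_isPrime (lt_of_le_of_ne hle hcon)
      rw [hq] at this
      exact absurd this (not_lt.mpr hPh)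
    refine ⟨h', le_antisymm h1 ?_⟩
    rw [heq']
    exact hP.1.2

end K934.UfdFlat
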