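import Groth.Agent.DualGr.K934.Axis
import Groth.Agent.DualGr.K934.PolyNode
import Groth.Agent.DualGr.K934.UfdFlat
import Groth.Agent.FlatA.FibreCrit2
import Mathlib.RingTheory.AdicCompletion.AsTensorProduct

/-!
# The ring `C[[x, y]]/(xy - Δ)`
-/

set_option autoImplicit false

namespace K934.SerNode

open IsLocalRing K934.Node K934.PolyNode

universe u

/-- power series in two variables. -/
abbrev S2 (C : Type u) [CommRing C] : Type u := MvPowerSeries (Fin 2) C

/-- the ideal `(xy - Δ)` of the power series ring. -/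
noncomputable abbrev srel {C : Type u} [CommRing C] (Δ : C) : Ideal (S2 C) :=
  (rel C Δ).map (algebraMap (MvPolynomial (Fin 2) C) (S2 C))

/-- the ring `C[[x, y]]/(xy - Δ)`. -/
abbrev NN {C : Type u} [CommRing C] (Δ : C) : Type u := S2 C ⧸ srel Δ

section general
variable {C : Type u} [CommRing C]

theorem srel_eq (Δ : C) : srel Δ =
    Ideal.span {(MvPowerSeries.X 0 * MvPowerSeries.X 1 - MvPowerSeries.C Δ : S2 C)} := by
  rw [srel, rel, Ideal.map_span, Set.image_singleton, map_sub, map_mul]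
  congr 3
  · congr 1
    · exact MvPolynomial.coe_X 0
    · exact MvPolynomial.coe_X 1
  · exact MvPolynomial.coe_C Δ

theorem mem_srel {Δ : C} {F : S2 C} : F ∈ srel Δ ↔
    ∃ t, t * (MvPowerSeries.X 0 * MvPowerSeries.X 1 - MvPowerSeries.C Δ) = F := by
  rw [srel_eq, Ideal.mem_span_singleton']

/-- axis reduction modulo an ideal. -/
noncomputable def axI (I : Ideal C) (i : Fin 2) : S2 C →+* PowerSeries (C ⧸ I) :=
  (PowerSeries.map (Ideal.Quotient.mk I)).comp (axis C i)

theorem coeff_axI (I : Ideal C) (i : Fin 2) (n : ℕ) (F : S2 C) :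
    PowerSeries.coeff n (axI I i F) = Ideal.Quotient.mk I
      (MvPowerSeries.coeff (Finsupp.single i n) F) := by
  rw [axI, RingHom.comp_apply, PowerSeries.coeff_map, coeff_axis]

theorem axI_C (I : Ideal C) (i : Fin 2) (c : C) : axI I i (MvPowerSeries.C c) =
    PowerSeries.C (Ideal.Quotient.mk I c) := by
  rw [axI, RingHom.comp_apply, axis_C, PowerSeries.map_C]

theorem axI_X_self (I : Ideal C) (i : Fin 2) : axI I i (MvPowerSeries.X i) = PowerSeries.X := by
  rw [axI, RingHom.comp_apply, axis_X_self, PowerSeries.map_X]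

theorem axI_X_ne (I : Ideal C) {i j : Fin 2} (h : i ≠ j) :
    axI I i (MvPowerSeries.X j) = 0 := by
  rw [axI, RingHom.comp_apply, axis_X_ne h, map_zero]

theorem axI_rel (I : Ideal C) (i : Fin 2) (Δ : C) (hΔ : Δ ∈ I) :
    axI I i (MvPowerSeries.X 0 * MvPowerSeries.X 1 - MvPowerSeries.C Δ) = 0 := by
  rw [map_sub, map_mul, axI_C, Ideal.Quotient.eq_zero_iff_mem.mpr hΔ, map_zero, sub_zero]
  fin_cases i
  · change axI I 0 (MvPowerSeries.X 0) * axI I 0 (MvPowerSeries.X 1) = 0
    rw [axI_X_ne I (i := 0) (j := 1) (by decide), mul_zero]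
  · change axI I 1 (MvPowerSeries.X 0) * axI I 1 (MvPowerSeries.X 1) = 0
    rw [axI_X_ne I (i := 1) (j := 0) (by decide), zero_mul]

theorem single_of_eq_zero {i j : Fin 2} (hij : i ≠ j) (m : Fin 2 →₀ ℕ) (hm : m j = 0) :
    m = Finsupp.single i (m i) := by
  ext l
  rw [Finsupp.single_apply]
  by_cases h : i = l
  · subst h; simp
  · rw [if_neg h]
    have : l = j := by omega
    rw [this, hm]

/-- the kernel of axis reduction. -/
theorem ker_axI (I : Ideal C) (hI : I.FG) {i j : Fin 2} (hij : i ≠ j) :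
    RingHom.ker (axI I i) = I.map (MvPowerSeries.C (σ := Fin 2)) ⊔
      Ideal.span {MvPowerSeries.X j} := by
  apply le_antisymm
  · intro F hF
    obtain ⟨s, r, hr⟩ := Submodule.fg_iff_exists_fin_generating_family.mp hI
    have h1 : ∀ m : Fin 2 →₀ ℕ, ∃ a : Fin s → C, m j = 0 →
        MvPowerSeries.coeff m F = ∑ l, a l * r l := by
      intro m
      by_cases hm : m j = 0
      · have h2 : MvPowerSeries.coeff m F ∈ I := by
          have h3 := congrArg (PowerSeries.coeff (m i)) ((RingHom.mem_ker).mp hF)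
          rw [coeff_axI, map_zero, ← single_of_eq_zero hij m hm,
            Ideal.Quotient.eq_zero_iff_mem] at h3
          exact h3
        rw [← hr] at h2
        obtain ⟨a, ha⟩ := (Submodule.mem_span_range_iff_exists_fun C).mp h2
        exact ⟨a, fun _ => ha.symm⟩
      · exact ⟨0, fun h => absurd h hm⟩
    choose a ha using h1
    let G : Fin s → S2 C := fun l m => if m j = 0 then a m l else 0
    have hG : ∀ l m, MvPowerSeries.coeff m (G l) = if m j = 0 then a m l else 0 := fun _ _ => rfl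
    have h4 : (MvPowerSeries.X j : S2 C) ∣ F - ∑ l, G l * MvPowerSeries.C (r l) := by
      rw [MvPowerSeries.X_dvd_iff]
      intro m hm
      rw [map_sub, map_sum, ha m hm, sub_eq_zero]
      refine Finset.sum_congr rfl fun l _ => ?_
      rw [MvPowerSeries.coeff_mul_C, hG, if_pos hm]
    have h5 : F = (∑ l, G l * MvPowerSeries.C (r l)) + (F - ∑ l, G l * MvPowerSeries.C (r l)) := by
      ring
    rw [h5]
    refine Ideal.add_mem _ (Ideal.mem_sup_left (Ideal.sum_mem _ fun l _ => ?_))
      (Ideal.mem_sup_right (Ideal.mem_span_singleton.mpr h4))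
    refine Ideal.mul_mem_left _ _ (Ideal.mem_map_of_mem _ ?_)
    rw [← hr]
    exact Submodule.subset_span ⟨l, rfl⟩
  · rw [sup_le_iff, Ideal.map_le_iff_le_comap, Ideal.span_singleton_le_iff_mem]
    constructor
    · intro c hc
      rw [Ideal.mem_comap, RingHom.mem_ker, axI_C, Ideal.Quotient.eq_zero_iff_mem.mpr hc, map_zero]
    · rw [RingHom.mem_ker, axI_X_ne I hij]

/-- power series with all coefficients in `I`. -/
theorem ker_map (I : Ideal C) (hI : I.FG) :
    RingHom.ker (MvPowerSeries.map (σ := Fin 2) (Ideal.Quotient.mk I)) =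
      I.map (MvPowerSeries.C (σ := Fin 2)) := by
  apply le_antisymm
  · intro F hF
    obtain ⟨s, r, hr⟩ := Submodule.fg_iff_exists_fin_generating_family.mp hI
    have h1 : ∀ m : Fin 2 →₀ ℕ, ∃ a : Fin s → C,
        MvPowerSeries.coeff m F = ∑ l, a l * r l := by
      intro m
      have h2 : MvPowerSeries.coeff m F ∈ I := by
        have h3 := congrArg (MvPowerSeries.coeff m) ((RingHom.mem_ker).mp hF)
        rw [MvPowerSeries.coeff_map, map_zero, Ideal.Quotient.eq_zero_iff_mem] at h3
        exact h3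
      rw [← hr] at h2
      obtain ⟨a, ha⟩ := (Submodule.mem_span_range_iff_exists_fun C).mp h2
      exact ⟨a, ha.symm⟩
    choose a ha using h1
    let G : Fin s → S2 C := fun l m => a m l
    have hG : ∀ l m, MvPowerSeries.coeff m (G l) = a m l := fun _ _ => rfl
    have h5 : F = ∑ l, G l * MvPowerSeries.C (r l) := by
      ext m
      rw [map_sum, ha m]
      refine Finset.sum_congr rfl fun l _ => ?_
      rw [MvPowerSeries.coeff_mul_C, hG]
    rw [h5]
    refine Ideal.sum_mem _ fun l _ => ?_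
    refine Ideal.mul_mem_left _ _ (Ideal.mem_map_of_mem _ ?_)
    rw [← hr]
    exact Submodule.subset_span ⟨l, rfl⟩
  · rw [Ideal.map_le_iff_le_comap]
    intro c hc
    rw [Ideal.mem_comap, RingHom.mem_ker, MvPowerSeries.map_C,
      Ideal.Quotient.eq_zero_iff_mem.mpr hc, map_zero]

/-- the induced map on the node ring. -/
noncomputable def nax (Δ : C) (I : Ideal C) (hΔ : Δ ∈ I) (i : Fin 2) :
    NN Δ →+* PowerSeries (C ⧸ I) :=
  Ideal.Quotient.lift _ (axI I i) (by
    intro F hF
    obtain ⟨t, rfl⟩ := mem_srel.mp hF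
    rw [map_mul, axI_rel I i Δ hΔ, mul_zero])

theorem nax_mk (Δ : C) (I : Ideal C) (hΔ : Δ ∈ I) (i : Fin 2) (F : S2 C) :
    nax Δ I hΔ i (Ideal.Quotient.mk _ F) = axI I i F := rfl

/-- the kernel. -/
theorem ker_nax (Δ : C) (I : Ideal C) (hI : I.FG) (hΔ : Δ ∈ I) {i j : Fin 2} (hij : i ≠ j) :
    RingHom.ker (nax Δ I hΔ i) = I.map ((Ideal.Quotient.mk (srel Δ)).comp
      (MvPowerSeries.C (σ := Fin 2))) ⊔
      Ideal.span {Ideal.Quotient.mk (srel Δ) (MvPowerSeries.X j)} := by
  have h1 : RingHom.ker (nax Δ I hΔ i) = (RingHom.ker (axI I i)).map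
      (Ideal.Quotient.mk (srel Δ)) := by
    apply le_antisymm
    · intro y hy
      obtain ⟨F, rfl⟩ := Ideal.Quotient.mk_surjective y
      exact Ideal.mem_map_of_mem _ hy
    · rw [Ideal.map_le_iff_le_comap]
      intro F hF
      exact hF
  rw [h1, ker_axI I hI hij, Ideal.map_sup, Ideal.map_map, Ideal.map_span, Set.image_singleton]

/-- the class of `x_i`. -/
noncomputable abbrev xx (Δ : C) (i : Fin 2) : NN Δ :=
  Ideal.Quotient.mk (srel Δ) (MvPowerSeries.X i)

/-- constants. -/
noncomputable abbrev cc (Δ : C) : C →+* NN Δ :=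
  (Ideal.Quotient.mk (srel Δ)).comp (MvPowerSeries.C (σ := Fin 2))

theorem xx_mul (Δ : C) : xx Δ 0 * xx Δ 1 = cc Δ Δ := by
  rw [RingHom.comp_apply, ← map_mul, Ideal.Quotient.eq, mem_srel]
  exact ⟨1, one_mul _⟩

theorem xx_mul' (Δ : C) {i j : Fin 2} (hij : i ≠ j) : xx Δ i * xx Δ j = cc Δ Δ := by
  fin_cases i <;> fin_cases j
  · exact absurd rfl hij
  · exact xx_mul Δ
  · change xx Δ 1 * xx Δ 0 = _
    rw [mul_comm]; exact xx_mul Δ
  · exact absurd rfl hij

end general

section domain
variable {C : Type u} [CommRing C] [IsDomain C] [IsLocalRing C] [IsNoetherianRing C]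
variable (Δ : C) (hΔ : Prime Δ)

include hΔ

theorem mem_srel_of_mul (F : S2 C) {i j : Fin 2} (hij : i ≠ j)
    (h : F * MvPowerSeries.X i ∈ srel Δ) : F ∈ srel Δ := by
  rw [mem_srel] at h ⊢
  obtain ⟨H, hH⟩ := h
  have h1 := congrArg (axis C j) hH
  have h2 : axis C j (MvPowerSeries.X 0 * MvPowerSeries.X 1 - MvPowerSeries.C Δ) =
      - PowerSeries.C Δ := by
    have h3 : (MvPowerSeries.X 0 * MvPowerSeries.X 1 : S2 C) =
        MvPowerSeries.X i * MvPowerSeries.X j := by
      fin_cases i <;> fin_cases j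
      · exact absurd rfl hij
      · rfl
      · exact mul_comm _ _
      · exact absurd rfl hij
    rw [h3, map_sub, map_mul, axis_X_ne hij.symm, zero_mul, axis_C, zero_sub]
  rw [map_mul, map_mul, h2, axis_X_ne hij.symm, mul_zero, mul_eq_zero, neg_eq_zero] at h1
  have h4 : axis C j H = 0 := by
    rcases h1 with h1 | h1
    · exact h1
    · exact absurd ((map_eq_zero_iff _ PowerSeries.C_injective).mp h1) hΔ.ne_zero
  have h5 : (MvPowerSeries.X i : S2 C) ∣ H := by
    rw [MvPowerSeries.X_dvd_iff]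
    intro m hm
    have := congrArg (PowerSeries.coeff (m j)) h4
    rw [coeff_axis, ← single_of_eq_zero hij.symm m hm, map_zero] at this
    exact this
  obtain ⟨H', rfl⟩ := h5
  have hX : (MvPowerSeries.X i : S2 C) ≠ 0 := by
    intro h
    have := congrArg (MvPowerSeries.coeff (Finsupp.single i 1)) h
    rw [MvPowerSeries.coeff_X, if_pos rfl, map_zero] at this
    exact one_ne_zero this
  refine ⟨H', mul_right_cancel₀ hX ?_⟩
  rw [← hH]; ring

theorem isLocalRing_NN : IsLocalRing (NN Δ) := by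
  have : Nontrivial (NN Δ) := by
    rw [Ideal.Quotient.nontrivial_iff]
    intro h
    have h1 : (1 : S2 C) ∈ srel Δ := by rw [h]; trivial
    obtain ⟨t, ht⟩ := mem_srel.mp h1
    have := congrArg MvPowerSeries.constantCoeff ht
    simp only [map_mul, map_sub, MvPowerSeries.constantCoeff_X, MvPowerSeries.constantCoeff_C,
      mul_zero, zero_sub, map_one] at this
    refine hΔ.not_isUnit (IsUnit.of_mul_eq_one (-MvPowerSeries.constantCoeff t) ?_)
    linear_combination this
  exact IsLocalRing.of_surjective' (Ideal.Quotient.mk (srel Δ)) Ideal.Quotient.mk_surjective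

theorem xx_ne_zero (i : Fin 2) : xx Δ i ≠ 0 := by
  intro h
  have h1 := congrArg (nax Δ (Ideal.span {Δ}) (Ideal.mem_span_singleton_self _) i) h
  rw [nax_mk, axI_X_self, map_zero] at h1
  have : Nontrivial (C ⧸ Ideal.span {Δ}) := by
    rw [Ideal.Quotient.nontrivial_iff]
    intro h
    exact hΔ.not_isUnit (Ideal.span_singleton_eq_top.mp h)
  exact PowerSeries.X_ne_zero h1

theorem isPrime_span_xx {i j : Fin 2} (hij : i ≠ j) : (Ideal.span {xx Δ j}).IsPrime := by
  have hp1 : (Ideal.span {Δ}).IsPrime := (Ideal.span_singleton_prime hΔ.ne_zero).mpr hΔ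
  have h1 := ker_nax Δ (Ideal.span {Δ}) ⟨{Δ}, by simp⟩ (Ideal.mem_span_singleton_self _) hij
  have h2 : (Ideal.span {Δ}).map (cc Δ) ≤ Ideal.span {xx Δ j} := by
    rw [Ideal.map_span, Set.image_singleton, Ideal.span_singleton_le_iff_mem,
      Ideal.mem_span_singleton, ← xx_mul' Δ hij]
    exact dvd_mul_left _ _
  rw [sup_eq_right.mpr h2] at h1
  rw [← h1]
  exact RingHom.ker_isPrime _

/-- a Noetherian local ring with a regular element generating a prime ideal is a domain. -/
theorem isDomain_NN : IsDomain (NN Δ) := by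
  have hloc := isLocalRing_NN Δ hΔ
  have hp := isPrime_span_xx Δ hΔ (i := 1) (j := 0) (by decide)
  obtain ⟨P, hP, hPle⟩ := Ideal.exists_minimalPrimes_le (I := (⊥ : Ideal (NN Δ)))
    (J := Ideal.span {xx Δ 0}) bot_le
  have hPp : P.IsPrime := hP.1.1
  have hx : xx Δ 0 ∉ P := by
    intro hx
    have h1 : xx Δ 0 ∉ nonZeroDivisors (NN Δ) := by
      intro h2
      have h3 : P ∈ minimalPrimes (NN Δ) := hP
      exact Set.disjoint_left.mp (Ideal.disjoint_nonZeroDivisors_of_mem_minimalPrimes h3)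
        hx h2
    apply h1
    rw [mem_nonZeroDivisors_iff_right]
    intro z hz
    obtain ⟨F, rfl⟩ := Ideal.Quotient.mk_surjective z
    rw [← map_mul, Ideal.Quotient.eq_zero_iff_mem] at hz
    exact Ideal.Quotient.eq_zero_iff_mem.mpr
      (mem_srel_of_mul Δ hΔ F (i := 0) (j := 1) (by decide) hz)
  have h4 : P ≤ (maximalIdeal (NN Δ)) • P := by
    intro y hy
    obtain ⟨z, hz⟩ := Ideal.mem_span_singleton'.mp (hPle hy)
    have hzP : z ∈ P := by
      rw [← hz] at hy
      exact (hPp.mem_or_mem hy).resolve_right hx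
    rw [← hz, mul_comm]
    refine Submodule.smul_mem_smul ?_ hzP
    refine (le_maximalIdeal hp.ne_top) (Ideal.mem_span_singleton_self _)
  have h5 : P = ⊥ := Submodule.eq_bot_of_le_smul_of_le_jacobson_bot (maximalIdeal (NN Δ)) P
    (IsNoetherian.noetherian P) h4 (by rw [jacobson_eq_maximalIdeal ⊥ bot_ne_top])
  rw [h5] at hPp
  exact IsDomain.of_bot_isPrime _

end domain

end K934.SerNode
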