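import Groth.Agent.DualGr.K934.SerNode
import Groth.Agent.Ega4C.FlatAscent
import Groth.Agent.CurvesC.RegNormal
import Groth.Agent.S2821
import Groth.Agent.Ega4dA.LocPrincipal

/-!
# Flatness and regularity of `C[[x, y]]/(xy - Δ)` in codimension one
-/

set_option autoImplicit false

namespace K934.SerNode

open IsLocalRing K934.Node K934.PolyNode

universe u

section flat
variable (C : Type u) [CommRing C] [IsNoetherianRing C]

theorem flat_poly_series : Module.Flat (MvPolynomial (Fin 2) C) (S2 C) :=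
  Module.Flat.of_linearEquiv (MvPowerSeries.toAdicCompletionAlgEquiv (Fin 2) C).toLinearEquiv

theorem flat_C_S2 : Module.Flat C (S2 C) := by
  have := flat_poly_series C
  exact Module.Flat.trans C (MvPolynomial (Fin 2) C) (S2 C)

theorem flat_N0_NN (Δ : C) : Module.Flat (N0 C Δ) (NN Δ) := by
  have := flat_poly_series C
  exact Module.Flat.of_linearEquiv
    (Algebra.TensorProduct.quotIdealMapEquivQuotTensor (S2 C) (rel C Δ)).toLinearEquiv

end flat

section reg

variable {C : Type u} [CommRing C] [IsLocalRing C] [IsNoetherianRing C]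
variable (Δ : C) (hΔ : Prime Δ)

theorem fg_m : (maximalIdeal C).FG := IsNoetherian.noetherian _

include hΔ in
theorem mem_m : Δ ∈ maximalIdeal C := by
  rw [mem_maximalIdeal, mem_nonunits_iff]; exact hΔ.not_isUnit

theorem algebraMap_S2 (c : C) : algebraMap C (S2 C) c = MvPowerSeries.C c := rfl

include hΔ in
theorem flat_C_NN : Module.Flat C (NN Δ) := by
  have h1 : Module.Flat C (S2 C) := flat_C_S2 C
  have hm : Δ ∈ maximalIdeal C := mem_m Δ hΔ
  have h2 := (Groth.Agent.FlatA.FibreCrit2.quotient_flat_of_nonzerodivisor_in_fibre (R := C)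
    (S := S2 C) (by
      rw [jacobson_eq_maximalIdeal ⊥ bot_ne_top]
      rw [Ideal.map_le_iff_le_comap]
      intro c hc
      rw [Ideal.mem_comap, mem_maximalIdeal, mem_nonunits_iff, algebraMap_S2,
        MvPowerSeries.isUnit_iff_constantCoeff, MvPowerSeries.constantCoeff_C]
      exact hc)
    (MvPowerSeries.X 0 * MvPowerSeries.X 1 - MvPowerSeries.C Δ) (by
      intro x hx
      have h3 : (maximalIdeal C).map (algebraMap C (S2 C)) =
          RingHom.ker (MvPowerSeries.map (σ := Fin 2) (Ideal.Quotient.mk (maximalIdeal C))) := by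
        rw [ker_map _ fg_m]; rfl
      rw [h3, RingHom.mem_ker] at hx ⊢
      rw [map_mul, mul_eq_zero] at hx
      refine hx.resolve_left ?_
      rw [map_sub, map_mul, MvPowerSeries.map_X, MvPowerSeries.map_X, MvPowerSeries.map_C,
        Ideal.Quotient.eq_zero_iff_mem.mpr hm, map_zero, sub_zero]
      intro h4
      have hX : ∀ i : Fin 2, (MvPowerSeries.X i : MvPowerSeries (Fin 2) (C ⧸ maximalIdeal C)) ≠ 0 := by
        intro i h
        have := congrArg (MvPowerSeries.coeff (Finsupp.single i 1)) h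
        rw [MvPowerSeries.coeff_X, if_pos rfl, map_zero] at this
        exact one_ne_zero this
      rcases mul_eq_zero.mp h4 with h | h
      · exact hX 0 h
      · exact hX 1 h)).1
  exact Module.Flat.of_linearEquiv (Ideal.quotientEquivAlgOfEq C (srel_eq Δ)).toLinearEquiv

/-- the prime `(m, x_j)`, `j ≠ i`. -/
noncomputable def pp (hm : Δ ∈ maximalIdeal C) (i : Fin 2) : Ideal (NN Δ) :=
  RingHom.ker (nax Δ (maximalIdeal C) hm i)

instance (hm : Δ ∈ maximalIdeal C) (i : Fin 2) : (pp Δ hm i).IsPrime := by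
  have : IsDomain (C ⧸ maximalIdeal C) := Ideal.Quotient.isDomain _
  exact RingHom.ker_isPrime _

theorem pp_eq (hm : Δ ∈ maximalIdeal C) {i j : Fin 2} (hij : i ≠ j) :
    pp Δ hm i = (maximalIdeal C).map (cc Δ) ⊔ Ideal.span {xx Δ j} :=
  ker_nax Δ (maximalIdeal C) fg_m hm hij

theorem xx_notMem_pp (hm : Δ ∈ maximalIdeal C) (i : Fin 2) : xx Δ i ∉ pp Δ hm i := by
  intro h
  rw [pp, RingHom.mem_ker, nax_mk, axI_X_self] at h
  have : Nontrivial (C ⧸ maximalIdeal C) := inferInstance
  exact PowerSeries.X_ne_zero h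

theorem algebraMap_NN (c : C) : algebraMap C (NN Δ) c = cc Δ c := rfl

theorem map_m_eq (hm : Δ ∈ maximalIdeal C) (i : Fin 2) :
    (maximalIdeal C).map (algebraMap C (Localization.AtPrime (pp Δ hm i))) =
      maximalIdeal (Localization.AtPrime (pp Δ hm i)) := by
  obtain ⟨j, hij⟩ : ∃ j : Fin 2, i ≠ j := by
    fin_cases i
    · exact ⟨1, by decide⟩
    · exact ⟨0, by decide⟩
  have h1 : (maximalIdeal C).map (algebraMap C (Localization.AtPrime (pp Δ hm i))) =
      ((maximalIdeal C).map (cc Δ)).map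
        (algebraMap (NN Δ) (Localization.AtPrime (pp Δ hm i))) := by
    rw [Ideal.map_map]
    rfl
  rw [← Localization.AtPrime.map_eq_maximalIdeal, h1]
  apply le_antisymm
  · apply Ideal.map_mono
    rw [pp_eq Δ hm hij]
    exact le_sup_left
  · have h2 := congrArg (Ideal.map (algebraMap (NN Δ) (Localization.AtPrime (pp Δ hm i))))
      (pp_eq Δ hm hij)
    rw [h2, Ideal.map_sup, sup_le_iff]
    refine ⟨le_rfl, ?_⟩
    rw [Ideal.map_span, Set.image_singleton, Ideal.span_singleton_le_iff_mem]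
    have hu : IsUnit (algebraMap (NN Δ) (Localization.AtPrime (pp Δ hm i)) (xx Δ i)) :=
      IsLocalization.map_units (Localization.AtPrime (pp Δ hm i))
        (⟨xx Δ i, xx_notMem_pp Δ hm i⟩ : (pp Δ hm i).primeCompl)
    rw [← Ideal.unit_mul_mem_iff_mem _ hu, ← map_mul, xx_mul' Δ hij]
    exact Ideal.mem_map_of_mem _ (Ideal.mem_map_of_mem _ hm)

end reg

section regular

theorem isRegularLocalRing_quot {B : Type u} [CommRing B] [IsLocalRing B] (I : Ideal B)
    (h : I = maximalIdeal B) : IsRegularLocalRing (B ⧸ I) := by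
  subst h
  let _ : Field (B ⧸ maximalIdeal B) := Ideal.Quotient.field _
  infer_instance

variable {C : Type u} [CommRing C] [IsRegularLocalRing C] (Δ : C) (hΔ : Prime Δ)

include hΔ in
theorem isRegularLocalRing_pp (i : Fin 2) :
    IsRegularLocalRing (Localization.AtPrime (pp Δ (mem_m Δ hΔ) i)) := by
  have h1 : Module.Flat C (NN Δ) := flat_C_NN Δ hΔ
  have h2 : Module.Flat C (Localization.AtPrime (pp Δ (mem_m Δ hΔ) i)) :=
    Module.Flat.trans C (NN Δ) (Localization.AtPrime (pp Δ (mem_m Δ hΔ) i))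
  have h3 := map_m_eq Δ (mem_m Δ hΔ) i
  have hl : IsLocalHom (algebraMap C (Localization.AtPrime (pp Δ (mem_m Δ hΔ) i))) :=
    ((local_hom_TFAE (algebraMap C (Localization.AtPrime (pp Δ (mem_m Δ hΔ) i)))).out 2 0).mp
      h3.le
  refine Groth.Agent.Ega4C.FlatAscent.isRegularLocalRing_of_flat_of_fibre C
    (Localization.AtPrime (pp Δ (mem_m Δ hΔ) i)) inferInstance
    (isRegularLocalRing_quot _ h3)

include hΔ in
theorem isPrincipal_map (i : Fin 2) (q : Ideal (NN Δ)) [q.IsPrime] (hq : q.height = 1) :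
    (q.map (algebraMap (NN Δ) (Localization.AtPrime (pp Δ (mem_m Δ hΔ) i)))).IsPrincipal := by
  have hC : IsDomain C := Groth.Agent.CurvesC.RegNormal.isDomain C
  have hN : IsDomain (NN Δ) := isDomain_NN Δ hΔ
  have h1 := isRegularLocalRing_pp Δ hΔ i
  obtain ⟨h2, h3⟩ := Groth.Agent.S2821.result (Localization.AtPrime (pp Δ (mem_m Δ hΔ) i))
  exact Groth.Agent.Ega4dA.LocPrincipal.isPrincipal_map_of_ufd (pp Δ (mem_m Δ hΔ) i)
    (Localization.AtPrime (pp Δ (mem_m Δ hΔ) i)) q hq

end regular

end K934.SerNode
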