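import Groth.Agent.DualGr.K934.SerReg
import Groth.Agent.Ega2.CompleteFinite
import Groth.Agent.Ega41.MvPS
import Mathlib.RingTheory.AdicCompletion.Noetherian

/-!
# `C[[x, y]]/(xy - Δ)` is factorial for `C` a complete regular local ring and `Δ` prime
-/

set_option autoImplicit false

namespace K934.SerNode

open IsLocalRing K934.Node K934.PolyNode

universe u

section density
variable {C : Type u} [CommRing C] (Δ : C)

/-- the map from the polynomial version. -/
noncomputable abbrev io : N0 C Δ →+* NN Δ := algebraMap (N0 C Δ) (NN Δ)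

theorem io_mk (p : MvPolynomial (Fin 2) C) : io Δ (Ideal.Quotient.mk _ p) =
    Ideal.Quotient.mk (srel Δ) (algebraMap (MvPolynomial (Fin 2) C) (S2 C) p) := rfl

/-- the ideal of the variables. -/
noncomputable abbrev vid : Ideal (NN Δ) := Ideal.span {xx Δ 0, xx Δ 1}

theorem map_varIdeal : (Groth.Agent.Ega41.MvPS.varIdeal (Fin 2) C).map
    (Ideal.Quotient.mk (srel Δ)) = vid Δ := by
  have h3 : Groth.Agent.Ega41.MvPS.varIdeal (Fin 2) C =
      Ideal.span {MvPowerSeries.X 0, MvPowerSeries.X 1} := by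
    unfold Groth.Agent.Ega41.MvPS.varIdeal
    congr 1
    ext x
    simp only [Set.mem_range, Set.mem_insert_iff, Set.mem_singleton_iff, Fin.exists_fin_two]
    constructor
    · rintro (h | h) <;> simp [← h]
    · rintro (h | h) <;> simp [h]
  rw [h3, Ideal.map_span, Set.image_pair]

/-- density of polynomials. -/
theorem exists_poly (y : NN Δ) (n : ℕ) : ∃ p : MvPolynomial (Fin 2) C, p.totalDegree ≤ n ∧
    y - io Δ (Ideal.Quotient.mk _ p) ∈ vid Δ ^ n := by
  obtain ⟨F, rfl⟩ := Ideal.Quotient.mk_surjective y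
  refine ⟨MvPowerSeries.truncTotal n F, ?_, ?_⟩
  · rcases Nat.eq_zero_or_pos n with rfl | hn
    · have h0 : MvPowerSeries.truncTotal 0 F = 0 := by
        ext x
        rw [MvPowerSeries.coeff_truncTotal_eq_zero _ (Nat.zero_le _), MvPolynomial.coeff_zero]
      rw [h0]
      simp
    · exact (MvPowerSeries.totalDegree_truncTotal_lt F hn.ne').le
  rw [io_mk, ← map_sub, ← map_varIdeal, ← Ideal.map_pow]
  exact Ideal.mem_map_of_mem _ (Groth.Agent.Ega41.MvPS.sub_truncTotal_mem n F)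

end density

section

variable {C : Type u} [CommRing C] [IsLocalRing C] [IsNoetherianRing C] (Δ : C)

/-- lifting along axis reduction. -/
theorem nax_surjective (I : Ideal C) (hΔ : Δ ∈ I) (i : Fin 2) :
    Function.Surjective (nax Δ I hΔ i) := by
  intro v
  obtain ⟨j, hij⟩ : ∃ j : Fin 2, i ≠ j := by
    fin_cases i
    · exact ⟨1, by decide⟩
    · exact ⟨0, by decide⟩
  choose a ha using fun n => Ideal.Quotient.mk_surjective (PowerSeries.coeff n v)
  let G : S2 C := fun m => a (m i)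
  refine ⟨Ideal.Quotient.mk _ G, ?_⟩
  rw [nax_mk]
  ext n
  rw [coeff_axI]
  change Ideal.Quotient.mk I (a ((Finsupp.single i n) i)) = _
  rw [Finsupp.single_eq_same, ha]

/-- powers of `x_i` in an ideal not contained in the prime `pp i`. -/
theorem exists_pow_mem (hm : Δ ∈ maximalIdeal C) (i : Fin 2) (I : Ideal (NN Δ))
    (hI : ¬ I ≤ pp Δ hm i) : ∃ a : ℕ, xx Δ i ^ a ∈ I ⊔ (maximalIdeal C).map (cc Δ) := by
  obtain ⟨j, hij⟩ : ∃ j : Fin 2, i ≠ j := by
    fin_cases i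
    · exact ⟨1, by decide⟩
    · exact ⟨0, by decide⟩
  obtain ⟨f, hfI, hf⟩ := SetLike.not_le_iff_exists.mp hI
  have hf0 : nax Δ (maximalIdeal C) hm i f ≠ 0 := hf
  let _ : Field (C ⧸ maximalIdeal C) := Ideal.Quotient.field _
  obtain ⟨a, v, hv⟩ := IsDiscreteValuationRing.associated_pow_irreducible hf0
    (PowerSeries.X_irreducible (R := C ⧸ maximalIdeal C))
  obtain ⟨w, hw⟩ := nax_surjective Δ (maximalIdeal C) hm i (v : PowerSeries (C ⧸ maximalIdeal C))
  refine ⟨a + 1, ?_⟩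
  have h1 : f * w - xx Δ i ^ a ∈ pp Δ hm i := by
    rw [pp, RingHom.mem_ker, map_sub, map_mul, hw, hv, map_pow, nax_mk, axI_X_self, sub_self]
  rw [pp_eq Δ hm hij, Submodule.mem_sup] at h1
  obtain ⟨s, hs, t, ht, hst⟩ := h1
  obtain ⟨t', rfl⟩ := Ideal.mem_span_singleton'.mp ht
  have h2 : xx Δ i ^ (a + 1) = f * (xx Δ i * w) - (xx Δ i * s + t' * (xx Δ i * xx Δ j)) := by
    have : xx Δ i * s + t' * (xx Δ i * xx Δ j) = xx Δ i * (s + t' * xx Δ j) := by ring
    rw [this, hst]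
    ring
  rw [h2, xx_mul' Δ hij]
  refine Ideal.sub_mem _ (Ideal.mem_sup_left (Ideal.mul_mem_right _ _ hfI))
    (Ideal.mem_sup_right (Ideal.add_mem _ (Ideal.mul_mem_left _ _ hs)
      (Ideal.mul_mem_left _ _ (Ideal.mem_map_of_mem _ hm))))

theorem exists_vid_pow_le (hm : Δ ∈ maximalIdeal C) (I : Ideal (NN Δ))
    (hI : ∀ i, ¬ I ≤ pp Δ hm i) :
    ∃ n : ℕ, vid Δ ^ n ≤ I ⊔ (maximalIdeal C).map (cc Δ) := by
  have h1 : vid Δ ≤ (I ⊔ (maximalIdeal C).map (cc Δ)).radical := by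
    rw [Ideal.span_le]
    intro y hy
    simp only [Set.mem_insert_iff, Set.mem_singleton_iff] at hy
    rcases hy with rfl | rfl
    · exact exists_pow_mem Δ hm 0 I (hI 0)
    · exact exists_pow_mem Δ hm 1 I (hI 1)
  obtain ⟨n, hn⟩ := Ideal.exists_radical_pow_le_of_fg (I ⊔ (maximalIdeal C).map (cc Δ))
    (IsNoetherian.noetherian _)
  exact ⟨n, (Ideal.pow_right_mono h1 n).trans hn⟩

variable (hΔ : Prime Δ)

include hΔ in
theorem cc_mem (hd : IsLocalRing (NN Δ)) (c : C) (hc : c ∈ maximalIdeal C) :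
    cc Δ c ∈ maximalIdeal (NN Δ) := by
  rw [mem_maximalIdeal, mem_nonunits_iff]
  intro h
  have hm := mem_m Δ hΔ
  have h1 := h.map (nax Δ (maximalIdeal C) hm 0)
  have h2 : nax Δ (maximalIdeal C) hm 0 (cc Δ c) = 0 := by
    rw [RingHom.comp_apply, nax_mk, axI_C, Ideal.Quotient.eq_zero_iff_mem.mpr hc, map_zero]
  rw [h2] at h1
  exact not_isUnit_zero h1

include hΔ in
theorem xx_mem [IsDomain C] (hd : IsLocalRing (NN Δ)) (i : Fin 2) :
    xx Δ i ∈ maximalIdeal (NN Δ) := by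
  obtain ⟨j, hij⟩ : ∃ j : Fin 2, i ≠ j := by
    fin_cases i
    · exact ⟨1, by decide⟩
    · exact ⟨0, by decide⟩
  have hp := isPrime_span_xx Δ hΔ hij.symm
  exact (le_maximalIdeal hp.ne_top) (Ideal.mem_span_singleton_self _)

/-- the map from the polynomial version to a quotient is surjective. -/
theorem surjective_quot [IsDomain C] [IsAdicComplete (maximalIdeal C) C] (hm : Δ ∈ maximalIdeal C)
    (hd : IsLocalRing (NN Δ)) (hcc : ∀ c ∈ maximalIdeal C, cc Δ c ∈ maximalIdeal (NN Δ))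
    (I : Ideal (NN Δ)) (hI : ∀ i, ¬ I ≤ pp Δ hm i) :
    Function.Surjective ((Ideal.Quotient.mk I).comp (io Δ)) := by
  obtain ⟨n, hn⟩ := exists_vid_pow_le Δ hm I hI
  let W := NN Δ ⧸ I
  let g0 : MvPolynomial (Fin 2) C →ₐ[C] (NN Δ ⧸ I) :=
    (Ideal.Quotient.mkₐ C I).comp ((Ideal.Quotient.mkₐ C (srel Δ)).comp
      (Algebra.ofId (MvPolynomial (Fin 2) C) (S2 C) |>.restrictScalars C))
  have hg0 : ∀ p, g0 p = Ideal.Quotient.mk I (io Δ (Ideal.Quotient.mk _ p)) := fun p => rfl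
  let g : MvPolynomial.restrictTotalDegree (Fin 2) C n →ₗ[C] (NN Δ ⧸ I) :=
    g0.toLinearMap.comp (Submodule.subtype _)
  have hpre : IsPrecomplete (maximalIdeal C) (MvPolynomial.restrictTotalDegree (Fin 2) C n) :=
    Groth.Agent.Ega2.CompleteFinite.isPrecomplete_of_finite _
  have hhau : IsHausdorff (maximalIdeal C) (NN Δ ⧸ I) := by
    have : IsHausdorff (maximalIdeal (NN Δ)) (NN Δ ⧸ I) := inferInstance
    refine IsHausdorff.of_map (S := NN Δ) (J := maximalIdeal (NN Δ)) ?_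
    rw [Ideal.map_le_iff_le_comap]
    exact hcc
  have hsurj : Function.Surjective g := by
    refine surjective_of_mkQ_comp_surjective (I := maximalIdeal C) ?_
    intro y
    obtain ⟨y, rfl⟩ := Submodule.mkQ_surjective _ y
    obtain ⟨y, rfl⟩ := Ideal.Quotient.mk_surjective y
    obtain ⟨p, hp, hpy⟩ := exists_poly Δ y n
    refine ⟨⟨p, (MvPolynomial.mem_restrictTotalDegree _ _ _).mpr hp⟩, ?_⟩
    rw [LinearMap.comp_apply, eq_comm, ← sub_eq_zero, ← map_sub, ← LinearMap.mem_ker,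
      Submodule.ker_mkQ]
    have h1 : y - io Δ (Ideal.Quotient.mk _ p) ∈ I ⊔ (maximalIdeal C).map (cc Δ) := hn hpy
    change Ideal.Quotient.mk I y - Ideal.Quotient.mk I (io Δ (Ideal.Quotient.mk _ p)) ∈ _
    rw [← map_sub]
    obtain ⟨s, hs, t, ht, hst⟩ := Submodule.mem_sup.mp h1
    rw [← hst, map_add, Ideal.Quotient.eq_zero_iff_mem.mpr hs, zero_add]
    have h2 : Ideal.Quotient.mk I t ∈
        ((maximalIdeal C).map ((Ideal.Quotient.mk I).comp (cc Δ))) := by
      have h3 := Ideal.mem_map_of_mem (Ideal.Quotient.mk I) ht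
      rw [Ideal.map_map] at h3
      exact h3
    have h4 := Ideal.smul_top_eq_map (R := C) (S := NN Δ ⧸ I) (maximalIdeal C)
    have h5 : Ideal.Quotient.mk I t ∈ (maximalIdeal C • (⊤ : Submodule C (NN Δ ⧸ I))) := by
      rw [h4]
      exact h2
    exact h5
  intro y
  obtain ⟨p, hp⟩ := hsurj y
  exact ⟨Ideal.Quotient.mk _ (p : MvPolynomial (Fin 2) C), hp⟩

/-- an ideal not contained in the two primes is extended. -/
theorem eq_map_comap [IsDomain C] [IsAdicComplete (maximalIdeal C) C] (hm : Δ ∈ maximalIdeal C)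
    (hd : IsLocalRing (NN Δ)) (hcc : ∀ c ∈ maximalIdeal C, cc Δ c ∈ maximalIdeal (NN Δ))
    (hxx : ∀ i, xx Δ i ∈ maximalIdeal (NN Δ))
    (I : Ideal (NN Δ)) (hI : ∀ i, ¬ I ≤ pp Δ hm i) :
    (I.comap (io Δ)).map (io Δ) = I := by
  apply le_antisymm Ideal.map_comap_le
  have hs := surjective_quot Δ hm hd hcc I hI
  have hvid : vid Δ ≤ maximalIdeal (NN Δ) := by
    rw [Ideal.span_le]
    intro y hy
    simp only [Set.mem_insert_iff, Set.mem_singleton_iff] at hy
    rcases hy with rfl | rfl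
    · exact hxx 0
    · exact hxx 1
  -- the contraction of the maximal ideal
  set 𝔪 : Ideal (N0 C Δ) := Ideal.span {x0 Δ, x1 Δ} with h𝔪
  have h𝔪v : 𝔪.map (io Δ) = vid Δ := by
    have hx : ∀ i, io Δ (Ideal.Quotient.mk _ (MvPolynomial.X i)) = xx Δ i := fun i => by
      rw [io_mk]
      exact congrArg (Ideal.Quotient.mk (srel Δ)) (MvPolynomial.coe_X i)
    rw [h𝔪, Ideal.map_span, Set.image_pair, hx 0, hx 1]
  have key : ∀ n : ℕ, I ≤ (I.comap (io Δ)).map (io Δ) ⊔ maximalIdeal (NN Δ) ^ n := by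
    intro n x hx
    obtain ⟨p, -, hp⟩ := exists_poly Δ x n
    -- `x - p ∈ vid ^ n`
    have h1 : Ideal.Quotient.mk I (x - io Δ (Ideal.Quotient.mk _ p)) ∈
        (𝔪 ^ n).map ((Ideal.Quotient.mk I).comp (io Δ)) := by
      rw [← Ideal.map_map, Ideal.map_pow, h𝔪v]
      exact Ideal.mem_map_of_mem _ hp
    rw [Ideal.mem_map_iff_of_surjective _ hs] at h1
    obtain ⟨z, hz, hzx⟩ := h1
    rw [RingHom.comp_apply, Ideal.Quotient.eq] at hzx
    have h2 : Ideal.Quotient.mk _ p + z ∈ I.comap (io Δ) := by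
      rw [Ideal.mem_comap, map_add]
      have : io Δ (Ideal.Quotient.mk _ p) + io Δ z =
          x + (io Δ z - (x - io Δ (Ideal.Quotient.mk _ p))) := by ring
      rw [this]
      exact Ideal.add_mem _ hx hzx
    have h3 : x = io Δ (Ideal.Quotient.mk _ p + z) +
        ((x - io Δ (Ideal.Quotient.mk _ p)) - io Δ z) := by rw [map_add]; ring
    rw [h3]
    refine Ideal.add_mem _ (Ideal.mem_sup_left (Ideal.mem_map_of_mem _ h2))
      (Ideal.mem_sup_right (Ideal.sub_mem _ (Ideal.pow_right_mono hvid n hp) ?_))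
    apply Ideal.pow_right_mono hvid n
    rw [← h𝔪v, ← Ideal.map_pow]
    exact Ideal.mem_map_of_mem _ hz
  intro x hx
  have hH : IsHausdorff (maximalIdeal (NN Δ)) (NN Δ ⧸ (I.comap (io Δ)).map (io Δ)) :=
    inferInstance
  rw [← Ideal.Quotient.eq_zero_iff_mem]
  apply hH.haus
  intro n
  rw [SModEq.zero]
  obtain ⟨s, hs', t, ht, hst⟩ := Submodule.mem_sup.mp (key n hx)
  rw [← hst, map_add, Ideal.Quotient.eq_zero_iff_mem.mpr hs', zero_add]
  have h4 := Ideal.smul_top_eq_map (R := NN Δ) (S := NN Δ ⧸ (I.comap (io Δ)).map (io Δ))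
    (maximalIdeal (NN Δ) ^ n)
  have h5 : Ideal.Quotient.mk ((I.comap (io Δ)).map (io Δ)) t ∈
      ((maximalIdeal (NN Δ) ^ n) •
      (⊤ : Submodule (NN Δ) (NN Δ ⧸ (I.comap (io Δ)).map (io Δ)))) := by
    refine (congrArg (fun M => Ideal.Quotient.mk ((I.comap (io Δ)).map (io Δ)) t ∈ M) h4).mpr ?_
    exact Ideal.mem_map_of_mem _ ht
  exact h5

end

end K934.SerNode
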