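import Groth.Agent.DualGr.K934.NodeReg
import Groth.Agent.CalgB.AdicRegField
import Groth.Agent.S2487
import Groth.Agent.S0599
import Groth.Agent.Ega4B.GRingLoc
import Groth.Agent.CalgB.GRingComplete
import Groth.Agent.Ega4late.H521.SchDenseAffine
import Mathlib.AlgebraicGeometry.Morphisms.Smooth
import Mathlib.AlgebraicGeometry.Morphisms.Flat

/-!
# Fibres of a smooth morphism and nodes
-/

set_option autoImplicit false

namespace K934.Node

open IsLocalRing CategoryTheory AlgebraicGeometry

universe u

/-- Local rings of schemes locally of finite type over a G-ring are G-rings. -/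
theorem isGRing_stalk {C : Type u} [CommRing C] (hC : CAlg.IsGRing C) {X : Scheme.{u}}
    (f : X ⟶ Spec (CommRingCat.of C)) [LocallyOfFiniteType f] (x : X) :
    CAlg.IsGRing (X.presheaf.stalk x) := by
  obtain ⟨U, hU, hxU, -⟩ := exists_isAffineOpen_mem_and_subset (X := X) (x := x) (U := ⊤) trivial
  have hft : (f.appLE ⊤ U le_top).hom.FiniteType :=
    f.finiteType_appLE (isAffineOpen_top _) hU le_top
  have hft2 : ((f.appLE ⊤ U le_top).hom.comp
      (Scheme.ΓSpecIso (CommRingCat.of C)).inv.hom).FiniteType :=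
    hft.comp (RingHom.FiniteType.of_surjective _
      (Scheme.ΓSpecIso (CommRingCat.of C)).symm.commRingCatIsoToRingEquiv.surjective)
  let _ : Algebra C Γ(X, U) := ((f.appLE ⊤ U le_top).hom.comp
      (Scheme.ΓSpecIso (CommRingCat.of C)).inv.hom).toAlgebra
  have : Algebra.FiniteType C Γ(X, U) := hft2
  have h1 : CAlg.IsGRing Γ(X, U) := Groth.Agent.S0599.result C hC Γ(X, U)
  let _ : Algebra Γ(X, U) (X.presheaf.stalk x) := (X.presheaf.germ U x hxU).hom.toAlgebra
  have hloc : IsLocalization.AtPrime (X.presheaf.stalk x) (hU.primeIdealOf ⟨x, hxU⟩).asIdeal :=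
    hU.isLocalization_stalk ⟨x, hxU⟩
  exact Groth.Agent.Ega4B.GRingLoc.isGRing_of_isLocalization Γ(X, U) (X.presheaf.stalk x)
    (hU.primeIdealOf ⟨x, hxU⟩).asIdeal.primeCompl h1

/-- a flat morphism surjective on stalks is an isomorphism on stalks. -/
theorem isIso_stalkMap_of_flat {X Y : Scheme.{u}} (f : X ⟶ Y) [Flat f] [SurjectiveOnStalks f]
    (x : X) : IsIso (f.stalkMap x) := by
  have h1 : Function.Surjective (f.stalkMap x).hom := SurjectiveOnStalks.stalkMap_surjective f x
  have h2 : (f.stalkMap x).hom.Flat := Flat.stalkMap f x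
  have h3 : Function.Injective (f.stalkMap x).hom := by
    algebraize [(f.stalkMap x).hom]
    have : IsLocalHom (algebraMap (Y.presheaf.stalk (f x)) (X.presheaf.stalk x)) :=
      inferInstanceAs (IsLocalHom (f.stalkMap x).hom)
    have := Module.FaithfullyFlat.of_flat_of_isLocalHom (A := Y.presheaf.stalk (f x))
      (B := X.presheaf.stalk x)
    exact FaithfulSMul.algebraMap_injective _ _
  exact (ConcreteCategory.isIso_iff_bijective (f.stalkMap x)).mpr ⟨h3, h1⟩

/-- localization is flat -/
theorem flat_fromSpecStalk (X : Scheme.{u}) (x : X) : Flat (X.fromSpecStalk x) := by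
  obtain ⟨_, ⟨U, hU, rfl⟩, hx, -⟩ :=
    X.isBasis_affineOpens.exists_subset_of_mem_open (Set.mem_univ x) isOpen_univ
  have h : Flat (Spec.map (X.presheaf.germ U x hx)) := by
    rw [Flat.SpecMap_iff]
    let _ : Algebra Γ(X, U) (X.presheaf.stalk x) := (X.presheaf.germ U x hx).hom.toAlgebra
    have := hU.isLocalization_stalk ⟨x, hx⟩
    exact IsLocalization.flat (X.presheaf.stalk x) (hU.primeIdealOf ⟨x, hx⟩).asIdeal.primeCompl
  rw [← hU.fromSpecStalk_eq_fromSpecStalk hx]
  have : IsOpenImmersion hU.fromSpec := hU.isOpenImmersion_fromSpec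
  have : Flat hU.fromSpec := inferInstance
  exact MorphismProperty.comp_mem @Flat _ _ h this

/-- formal smoothness of stalk maps of `Spec 𝒪_{X,x} ⟶ X ⟶ Y`. -/
theorem formallySmooth_comp_fromSpecStalk {X Y : Scheme.{u}} (f : X ⟶ Y) (x : X)
    (Q : Spec (X.presheaf.stalk x))
    (h : (f.stalkMap (X.fromSpecStalk x Q)).hom.FormallySmooth) :
    ((X.fromSpecStalk x ≫ f).stalkMap Q).hom.FormallySmooth := by
  have : Flat (X.fromSpecStalk x) := flat_fromSpecStalk X x
  have : IsIso ((X.fromSpecStalk x).stalkMap Q) := isIso_stalkMap_of_flat _ _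
  have h1 := (RingHom.FormallySmooth.respectsIso.cancel_right_isIso _
    ((X.fromSpecStalk x).stalkMap Q)).mpr h
  rw [← CommRingCat.hom_comp, ← Scheme.Hom.stalkMap_comp] at h1
  exact h1

/-- `Spec (stalkHom f x)` factors as `Spec 𝒪_{X,x} ⟶ X ⟶ Spec R`. -/
theorem specMap_stalkHom {R : Type u} [CommRing R] {X : Scheme.{u}}
    (f : X ⟶ Spec (CommRingCat.of R)) (x : X) :
    Spec.map (CommRingCat.ofHom (DualGr.stalkHom f x)) = X.fromSpecStalk x ≫ f := by
  have h1 : X.toSpecΓ ≫ Spec.map f.appTop ≫ Spec.map (Scheme.ΓSpecIso (CommRingCat.of R)).inv =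
      f := by
    rw [← Scheme.toSpecΓ_naturality_assoc, ← SpecMap_ΓSpecIso_hom, ← Spec.map_comp,
      Iso.inv_hom_id, Spec.map_id, Category.comp_id]
  conv_rhs => rw [← h1]
  rw [← Category.assoc, Scheme.fromSpecStalk_toSpecΓ, ← Spec.map_comp, ← Spec.map_comp]
  rfl

/-- the fibre rings of a ring homomorphism with formally smooth stalk maps are regular. -/
theorem isRegularLocalRing_of_formallySmooth {R A : Type u} [CommRing R] [CommRing A]
    [IsNoetherianRing A] (φ : R →+* A) (q : Ideal A) [q.IsPrime]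
    (Q : Spec (CommRingCat.of A)) (hQ : PrimeSpectrum.asIdeal Q = q)
    (h : ((Spec.map (CommRingCat.ofHom φ)).stalkMap Q).hom.FormallySmooth) :
    IsRegularLocalRing
      (Localization.AtPrime q ⧸
        ((q.comap φ).map φ).map (algebraMap A (Localization.AtPrime q))) := by
  subst hQ
  have h1 : (Localization.localRingHom ((PrimeSpectrum.asIdeal Q).comap φ)
      (PrimeSpectrum.asIdeal Q) φ rfl).FormallySmooth := by
    have := (RingHom.FormallySmooth.respectsIso.arrow_mk_iso_iff
      (Scheme.arrowStalkMapSpecIso (CommRingCat.ofHom φ) Q)).mp h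
    exact this
  set q : Ideal A := PrimeSpectrum.asIdeal Q
  let _ : Algebra (Localization.AtPrime (q.comap φ)) (Localization.AtPrime q) :=
    (Localization.localRingHom (q.comap φ) q φ rfl).toAlgebra
  have hl : IsLocalHom (algebraMap (Localization.AtPrime (q.comap φ)) (Localization.AtPrime q)) :=
    Localization.isLocalHom_localRingHom _ q φ rfl
  have hfs : Algebra.FormallySmooth (Localization.AtPrime (q.comap φ))
    (Localization.AtPrime q) := h1
  have h2 : CAlgX.IsAdicFormallySmooth (Localization.AtPrime (q.comap φ))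
      (Localization.AtPrime q) (maximalIdeal (Localization.AtPrime q)) := by
    intro B _ _ J hJ ψ _
    exact Algebra.FormallySmooth.exists_lift J ⟨2, hJ⟩ ψ
  have h3 := Groth.Agent.S2487.isRegularLocalRing_fibre h2
  have h4 : (maximalIdeal (Localization.AtPrime (q.comap φ))).map
      (algebraMap (Localization.AtPrime (q.comap φ)) (Localization.AtPrime q)) =
      ((q.comap φ).map φ).map (algebraMap A (Localization.AtPrime q)) := by
    rw [← Localization.AtPrime.map_eq_maximalIdeal, Ideal.map_map, Ideal.map_map]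
    congr 1
    ext r
    exact Localization.localRingHom_to_map (q.comap φ) q φ rfl r
  rw [h4] at h3
  exact h3

/-- the main statement. -/
theorem mem_nonZeroDivisors
    (R : Type u) [CommRing R] [IsNoetherianRing R] [IsLocalRing R]
    [IsAdicComplete (maximalIdeal R) R]
    {C : Scheme.{u}} (f : C ⟶ Spec (CommRingCat.of R)) [LocallyOfFiniteType f]
    (U : (Spec (CommRingCat.of R)).Opens) (hU : CInt.IsSchematicallyDense U)
    (hsm : Smooth (morphismRestrict f U))
    (c : C) (a : R)
    (hnode : DualGr.IsThickNode (DualGr.stalkHom f c) a) :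
    a ∈ nonZeroDivisors R := by
  by_contra hna
  have h1 : a ∈ (⋃ p ∈ associatedPrimes R R, (p : Set R)) := by
    rw [biUnion_associatedPrimes_eq_compl_nonZeroDivisors]
    exact hna
  simp only [Set.mem_iUnion, SetLike.mem_coe] at h1
  obtain ⟨p, hp, hap⟩ := h1
  have hpp : p.IsPrime := hp.1
  have hpd : ∀ s ∈ p, s ∉ nonZeroDivisors R := by
    intro s hs
    have : s ∈ (⋃ p ∈ associatedPrimes R R, (p : Set R)) := by
      simp only [Set.mem_iUnion]
      exact ⟨p, hp, hs⟩
    rw [biUnion_associatedPrimes_eq_compl_nonZeroDivisors] at this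
    exact this
  have hGR : CAlg.IsGRing R := Groth.Agent.CalgB.GRingComplete.isGRing R
  have hG : CAlg.IsGRing (C.presheaf.stalk c) := isGRing_stalk hGR f c
  have hA : IsNoetherianRing (C.presheaf.stalk c) := hG.1
  -- the point of `Spec R`
  let x : Spec (CommRingCat.of R) := ⟨p, hpp⟩
  have hxU : x ∈ U := by
    obtain ⟨t, ht, htU⟩ := Groth.Agent.Ega4late.H521.SchDenseAffine.exists_basicOpen_le_of_isNoetherian
      (X := Spec (CommRingCat.of R)) hU
    apply htU
    let E := (Scheme.ΓSpecIso (CommRingCat.of R)).commRingCatIsoToRingEquiv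
    have ht' : E t ∈ nonZeroDivisors R := by
      rw [mem_nonZeroDivisors_iff_right]
      intro y hy
      have h2 : E.symm y * t = 0 := by
        apply E.injective
        rw [map_mul, RingEquiv.apply_symm_apply, map_zero]
        exact hy
      have h3 := (mem_nonZeroDivisors_iff_right.mp ht) _ h2
      rw [← E.apply_symm_apply y, h3, map_zero]
    rw [basicOpen_eq_of_affine']
    exact fun h => hpd _ h ht'
  refine false_of_node R (C.presheaf.stalk c) hG (DualGr.stalkHom f c) a hnode p hap ?_
  intro q hq hqp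
  let Q : Spec (CommRingCat.of (C.presheaf.stalk c)) := ⟨q, hq⟩
  let c' : C := C.fromSpecStalk c Q
  have hfc' : f c' = x := by
    have h4 : f c' = (C.fromSpecStalk c ≫ f) Q := (Scheme.Hom.comp_apply _ _ _).symm
    rw [h4, ← specMap_stalkHom]
    exact PrimeSpectrum.ext hqp
  have hc' : f c' ∈ U := by rw [hfc']; exact hxU
  have h5 : (f.stalkMap c').hom.FormallySmooth := by
    have h6 : ((morphismRestrict f U).stalkMap ⟨c', hc'⟩).hom.FormallySmooth := by
      have h7 : (⟨c', hc'⟩ : (f ⁻¹ᵁ U : C.Opens)) ∈ (morphismRestrict f U).smoothLocus := by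
        rw [Scheme.Hom.smoothLocus_eq_top (morphismRestrict f U)]
        trivial
      exact h7
    exact (RingHom.FormallySmooth.respectsIso.arrow_mk_iso_iff
      (morphismRestrictStalkMap f U ⟨c', hc'⟩)).mp h6
  have h2 : ((Spec.map (CommRingCat.ofHom (DualGr.stalkHom f c))).stalkMap
      Q).hom.FormallySmooth := by
    rw [specMap_stalkHom]
    exact formallySmooth_comp_fromSpecStalk f c Q h5
  have h3 := isRegularLocalRing_of_formallySmooth (DualGr.stalkHom f c) q Q rfl h2
  rw [hqp] at h3
  exact h3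

end K934.Node
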