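import Groth.Agent.DualGr.K934.SerMain
import Groth.Agent.Ega4A.CplQuot
import Groth.Agent.S0548
import Groth.Agent.S2833
import Groth.Prelude.Def_DualGr
import Mathlib.AlgebraicGeometry.Noetherian

/-!
# Stalks at nodes of prime thickness over a regular base are factorial
-/

set_option autoImplicit false

namespace K934.SerNode

open IsLocalRing

universe u

theorem ufd_of_node (R A : Type u) [CommRing R] [IsRegularLocalRing R] [CommRing A]
    [IsLocalRing A] [IsNoetherianRing A] (φ : R →+* A) (Δ : R) (h : DualGr.IsThickNode φ Δ)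
    (hprime : Prime (algebraMap R (Curv2.cpl R) Δ)) :
    IsDomain A ∧ UniqueFactorizationMonoid A := by
  obtain ⟨e, -⟩ := h
  have h1 : IsRegularLocalRing (Curv2.cpl R) := (Groth.Agent.S0548.result R).mp inferInstance
  have h2 : IsAdicComplete (maximalIdeal (Curv2.cpl R)) (Curv2.cpl R) := inferInstance
  obtain ⟨h4, h5⟩ := ufd_NN (algebraMap R (Curv2.cpl R) Δ) hprime
  let e2 : DualGr.nodeRing R Δ ≃+* NN (algebraMap R (Curv2.cpl R) Δ) :=
    Ideal.quotEquivOfEq (srel_eq _).symm
  let e3 : Curv2.cpl A ≃+* NN (algebraMap R (Curv2.cpl R) Δ) := e.trans e2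
  have h6 : IsDomain (Curv2.cpl A) := e3.injective.isDomain e3.toRingHom
  have h7 : UniqueFactorizationMonoid (Curv2.cpl A) :=
    MulEquiv.uniqueFactorizationMonoid e3.symm.toMulEquiv h5
  have h8 : IsNoetherianRing (Curv2.cpl A) := Groth.Agent.Ega4A.CplQuot.isNoetherianRing_cpl A
  exact Groth.Agent.S2833.result A (Curv2.cpl A) h7

end K934.SerNode
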