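import Groth.Agent.DualGr.K934.Axis
import Groth.Agent.Ega4A.CplQuot
import Groth.Prelude.Def_DualGr

/-!
# Uniqueness of the thickness ideal
-/

set_option autoImplicit false

namespace K934.Node

open IsLocalRing

universe u

section
variable {C : Type u} [CommRing C] [IsLocalRing C]

/-- the first axis, modulo `a`. -/
noncomputable def axisMod (a : C) : MvPowerSeries (Fin 2) C →+* PowerSeries (C ⧸ Ideal.span {a}) :=
  (PowerSeries.map (Ideal.Quotient.mk (Ideal.span {a}))).comp (axis C 0)

theorem axisMod_C (a c : C) : axisMod a (MvPowerSeries.C c) =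
    PowerSeries.C (Ideal.Quotient.mk (Ideal.span {a}) c) := by
  rw [axisMod, RingHom.comp_apply, axis_C, PowerSeries.map_C]

theorem axisMod_X0 (a : C) : axisMod a (MvPowerSeries.X 0) = PowerSeries.X := by
  rw [axisMod, RingHom.comp_apply, axis_X_self, PowerSeries.map_X]

theorem axisMod_X1 (a : C) : axisMod a (MvPowerSeries.X 1) = 0 := by
  rw [axisMod, RingHom.comp_apply, axis_X_ne (by decide), map_zero]

theorem axisMod_rel (a : C) : axisMod a
    (MvPowerSeries.X 0 * MvPowerSeries.X 1 - MvPowerSeries.C a) = 0 := by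
  rw [map_sub, map_mul, axisMod_X1, mul_zero, axisMod_C, zero_sub, neg_eq_zero]
  have : Ideal.Quotient.mk (Ideal.span {a}) a = 0 :=
    Ideal.Quotient.eq_zero_iff_mem.mpr (Ideal.mem_span_singleton_self a)
  rw [this, map_zero]

theorem key_aux [IsNoetherianRing C] (a b : C) [IsLocalRing (C ⧸ Ideal.span {a})]
    (p r : PowerSeries (C ⧸ Ideal.span {a}))
    (hp0 : PowerSeries.constantCoeff p ∈ maximalIdeal (C ⧸ Ideal.span {a}))
    (hpr : p * r = PowerSeries.C (Ideal.Quotient.mk (Ideal.span {a}) b))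
    (hX : (PowerSeries.X : PowerSeries (ResidueField (C ⧸ Ideal.span {a}))) ∈
      Ideal.span {PowerSeries.map (residue (C ⧸ Ideal.span {a})) p}) : b ∈ Ideal.span {a} := by
  rw [Ideal.mem_span_singleton'] at hX
  obtain ⟨n, hn⟩ := hX
  have h1 := congrArg (PowerSeries.coeff 1) hn
  rw [PowerSeries.coeff_one_X, PowerSeries.coeff_mul] at h1
  have h0 : PowerSeries.coeff 0 (PowerSeries.map (residue (C ⧸ Ideal.span {a})) p) = 0 := by
    rw [PowerSeries.coeff_map, PowerSeries.coeff_zero_eq_constantCoeff_apply,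
      residue_eq_zero_iff]
    exact hp0
  rw [Finset.Nat.antidiagonal_succ] at h1
  simp only [Finset.Nat.antidiagonal_zero, Finset.map_singleton, Finset.sum_cons,
    Finset.sum_singleton, Function.Embedding.prodMap, Function.Embedding.coeFn_mk, Prod.map_fst,
    Prod.map_snd, Function.Embedding.refl_apply, Nat.succ_eq_add_one, zero_add] at h1
  change _ + (PowerSeries.coeff 1) n *
    (PowerSeries.coeff 0) (PowerSeries.map (residue (C ⧸ Ideal.span {a})) p) = 1 at h1
  rw [h0, mul_zero, add_zero, PowerSeries.coeff_map] at h1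
  have hu : IsUnit (PowerSeries.coeff 1 p) := by
    have : residue (C ⧸ Ideal.span {a}) (PowerSeries.coeff 1 p) ≠ 0 := by
      intro h
      rw [h, mul_zero] at h1
      exact zero_ne_one h1
    exact (residue_ne_zero_iff_isUnit _).mp this
  have := eq_zero_of_mul_eq_C _ p r hp0 hu hpr
  exact Ideal.Quotient.eq_zero_iff_mem.mp this

theorem key [IsNoetherianRing C] (a b : C) (ha : a ∈ maximalIdeal C) (hb : b ∈ maximalIdeal C)
    (F G : MvPowerSeries (Fin 2) C) (hF : MvPowerSeries.constantCoeff F ∈ maximalIdeal C)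
    (hG : MvPowerSeries.constantCoeff G ∈ maximalIdeal C)
    (hFG : F * G - MvPowerSeries.C b ∈
      Ideal.span {MvPowerSeries.X 0 * MvPowerSeries.X 1 - MvPowerSeries.C a})
    (hX : (MvPowerSeries.X 0 : MvPowerSeries (Fin 2) C) ∈
      (maximalIdeal C).map (MvPowerSeries.C (σ := Fin 2)) ⊔ Ideal.span {F, G} ⊔
        Ideal.span {MvPowerSeries.X 0 * MvPowerSeries.X 1 - MvPowerSeries.C a}) :
    b ∈ Ideal.span {a} := by
  have hne : Ideal.span {a} ≠ ⊤ := by
    intro h
    have : Ideal.span {a} ≤ maximalIdeal C := by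
      rw [Ideal.span_singleton_le_iff_mem]; exact ha
    rw [h] at this
    exact (maximalIdeal.isMaximal C).ne_top (top_le_iff.mp this)
  have : Nontrivial (C ⧸ Ideal.span {a}) := Ideal.Quotient.nontrivial_iff.mpr hne
  have hloc : IsLocalRing (C ⧸ Ideal.span {a}) :=
    IsLocalRing.of_surjective' (Ideal.Quotient.mk (Ideal.span {a})) Ideal.Quotient.mk_surjective
  have hmem : ∀ c ∈ maximalIdeal C, Ideal.Quotient.mk (Ideal.span {a}) c ∈
      maximalIdeal (C ⧸ Ideal.span {a}) := by
    intro c hc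
    rw [mem_maximalIdeal, mem_nonunits_iff] at hc ⊢
    have : IsLocalHom (Ideal.Quotient.mk (Ideal.span {a})) :=
      IsLocalHom.of_surjective _ Ideal.Quotient.mk_surjective
    exact fun h => hc (isUnit_of_map_unit _ _ h)
  set α := axisMod a with hα
  set β := PowerSeries.map (residue (C ⧸ Ideal.span {a})) with hβ
  have h0 : ∀ F : MvPowerSeries (Fin 2) C, PowerSeries.constantCoeff (α F) =
      Ideal.Quotient.mk _ (MvPowerSeries.constantCoeff F) := by
    intro F
    rw [hα, axisMod, RingHom.comp_apply, ← PowerSeries.coeff_zero_eq_constantCoeff_apply,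
      PowerSeries.coeff_map, PowerSeries.coeff_zero_eq_constantCoeff_apply, constantCoeff_axis]
  have hpr : α F * α G = PowerSeries.C (Ideal.Quotient.mk (Ideal.span {a}) b) := by
    rw [Ideal.mem_span_singleton'] at hFG
    obtain ⟨t, ht⟩ := hFG
    have := congrArg α ht
    rw [map_mul, hα, axisMod_rel, mul_zero, map_sub, map_mul, axisMod_C] at this
    exact (sub_eq_zero.mp this.symm)
  have hpr' : β (α F) * β (α G) = 0 := by
    rw [← map_mul, hpr, hβ, PowerSeries.map_C]
    have : residue (C ⧸ Ideal.span {a}) (Ideal.Quotient.mk (Ideal.span {a}) b) = 0 := by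
      rw [residue_eq_zero_iff]; exact hmem b hb
    rw [this, map_zero]
  have hX' : (PowerSeries.X : PowerSeries (ResidueField (C ⧸ Ideal.span {a}))) ∈
      Ideal.span {β (α F), β (α G)} := by
    have h1 := Ideal.mem_map_of_mem (β.comp α) hX
    rw [Ideal.map_sup, Ideal.map_sup, Ideal.map_map, Ideal.map_span, Ideal.map_span] at h1
    have h2 : Ideal.map ((β.comp α).comp MvPowerSeries.C) (maximalIdeal C) = ⊥ := by
      rw [eq_bot_iff, Ideal.map_le_iff_le_comap]
      intro c hc
      rw [Ideal.mem_comap, Ideal.mem_bot, RingHom.comp_apply, RingHom.comp_apply, hα, axisMod_C,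
        hβ, PowerSeries.map_C]
      have : residue (C ⧸ Ideal.span {a}) (Ideal.Quotient.mk (Ideal.span {a}) c) = 0 := by
        rw [residue_eq_zero_iff]; exact hmem c hc
      rw [this, map_zero]
    have h3 : Ideal.span ((β.comp α) ''
        {(MvPowerSeries.X 0 * MvPowerSeries.X 1 - MvPowerSeries.C a :
          MvPowerSeries (Fin 2) C)}) = ⊥ := by
      rw [Set.image_singleton, RingHom.comp_apply, hα, axisMod_rel, map_zero,
        Ideal.span_singleton_eq_bot]
    rw [h2, h3, bot_sup_eq, sup_bot_eq, RingHom.comp_apply, hα, axisMod_X0, hβ,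
      PowerSeries.map_X, Set.image_pair] at h1
    exact h1
  rcases mul_eq_zero.mp hpr' with h | h
  · rw [h, Ideal.span_insert, Ideal.span_singleton_eq_bot.mpr rfl, bot_sup_eq] at hX'
    exact key_aux a b (α G) (α F) (by rw [h0]; exact hmem _ hG) (by rw [mul_comm]; exact hpr) hX'
  · rw [h, Ideal.span_insert, Ideal.span_singleton_eq_bot.mpr rfl, sup_bot_eq] at hX'
    exact key_aux a b (α F) (α G) (by rw [h0]; exact hmem _ hF) hpr hX'

end

end K934.Node

namespace K934.Node

open IsLocalRing

universe u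

section
variable {C : Type u} [CommRing C] [IsLocalRing C]

theorem constantCoeff_mem_of_nonunit (F : MvPowerSeries (Fin 2) C) (h : ¬ IsUnit F) :
    MvPowerSeries.constantCoeff F ∈ maximalIdeal C := by
  rw [mem_maximalIdeal, mem_nonunits_iff]
  intro h'
  exact h (MvPowerSeries.isUnit_iff_constantCoeff.mpr h')

theorem not_isUnit_mk_X (a : C) (ha : a ∈ maximalIdeal C) (i : Fin 2) :
    ¬ IsUnit (Ideal.Quotient.mk (Ideal.span
      {(MvPowerSeries.X 0 * MvPowerSeries.X 1 - MvPowerSeries.C a : MvPowerSeries (Fin 2) C)})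
      (MvPowerSeries.X i)) := by
  intro h
  obtain ⟨y, hy⟩ := h.exists_right_inv
  obtain ⟨H, rfl⟩ := Ideal.Quotient.mk_surjective y
  rw [← map_mul, ← map_one (Ideal.Quotient.mk _), Ideal.Quotient.eq,
    Ideal.mem_span_singleton'] at hy
  obtain ⟨t, ht⟩ := hy
  have := congrArg MvPowerSeries.constantCoeff ht
  simp only [map_mul, map_sub, MvPowerSeries.constantCoeff_X, MvPowerSeries.constantCoeff_C,
    mul_zero, zero_sub, zero_mul, map_one] at this
  have h1 : (1 : C) ∈ maximalIdeal C := by
    have h2 : (1 : C) = MvPowerSeries.constantCoeff t * a := by linear_combination this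
    rw [h2]
    exact Ideal.mul_mem_left _ _ ha
  exact (Ideal.ne_top_iff_one _).mp (maximalIdeal.isMaximal C).ne_top h1

theorem mem_of_nonunit (H : MvPowerSeries (Fin 2) C) (h : ¬ IsUnit H) :
    H ∈ (maximalIdeal C).map (MvPowerSeries.C (σ := Fin 2)) ⊔
      Ideal.span {MvPowerSeries.X 0, MvPowerSeries.X 1} := by
  have h1 := constantCoeff_mem_of_nonunit H h
  have h2 : H - MvPowerSeries.C (MvPowerSeries.constantCoeff H) ∈
      Groth.Agent.Ega41.MvPS.varIdeal (Fin 2) C := by
    rw [Groth.Agent.Ega41.MvPS.mem_varIdeal_iff]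
    simp
  have h3 : Groth.Agent.Ega41.MvPS.varIdeal (Fin 2) C =
      Ideal.span {MvPowerSeries.X 0, MvPowerSeries.X 1} := by
    unfold Groth.Agent.Ega41.MvPS.varIdeal
    congr 1
    ext x
    simp only [Set.mem_range, Set.mem_insert_iff, Set.mem_singleton_iff, Fin.exists_fin_two]
    constructor
    · rintro (h | h) <;> simp [← h]
    · rintro (h | h) <;> simp [h]
  rw [h3] at h2
  have h4 : H = MvPowerSeries.C (MvPowerSeries.constantCoeff H) +
      (H - MvPowerSeries.C (MvPowerSeries.constantCoeff H)) := by ring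
  rw [h4]
  exact Ideal.add_mem _ (Ideal.mem_sup_left (Ideal.mem_map_of_mem _ h1)) (Ideal.mem_sup_right h2)

end

/-- comparison of two node rings. -/
theorem mem_span_of_nodeRing_equiv (R : Type u) [CommRing R] [IsLocalRing R] [IsNoetherianRing R]
    (a b : R) (ha : a ∈ maximalIdeal R) (hb : b ∈ maximalIdeal R)
    (ψ : DualGr.nodeRing R b ≃+* DualGr.nodeRing R a)
    (hψ : ∀ r : R, ψ (Ideal.Quotient.mk _ (MvPowerSeries.C (algebraMap R (Curv2.cpl R) r))) =
      Ideal.Quotient.mk _ (MvPowerSeries.C (algebraMap R (Curv2.cpl R) r))) :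
    b ∈ Ideal.span {a} := by
  have hN : IsNoetherianRing (Curv2.cpl R) := Groth.Agent.Ega4A.CplQuot.isNoetherianRing_cpl R
  have hmax : (maximalIdeal R).map (algebraMap R (Curv2.cpl R)) = maximalIdeal (Curv2.cpl R) :=
    AdicCompletion.maximalIdeal_eq_map.symm
  have hmem : ∀ r ∈ maximalIdeal R, algebraMap R (Curv2.cpl R) r ∈ maximalIdeal (Curv2.cpl R) := by
    intro r hr
    rw [← hmax]
    exact Ideal.mem_map_of_mem _ hr
  obtain ⟨F, hF⟩ := Ideal.Quotient.mk_surjective
    (ψ (Ideal.Quotient.mk _ (MvPowerSeries.X 0)))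
  obtain ⟨G, hG⟩ := Ideal.Quotient.mk_surjective
    (ψ (Ideal.Quotient.mk _ (MvPowerSeries.X 1)))
  have h1 : algebraMap R (Curv2.cpl R) b ∈ Ideal.span {algebraMap R (Curv2.cpl R) a} := by
    refine key _ _ (hmem a ha) (hmem b hb) F G ?_ ?_ ?_ ?_
    · apply constantCoeff_mem_of_nonunit
      intro h
      have := h.map (Ideal.Quotient.mk (Ideal.span {(MvPowerSeries.X 0 * MvPowerSeries.X 1 -
        MvPowerSeries.C (algebraMap R (Curv2.cpl R) a) : MvPowerSeries (Fin 2) (Curv2.cpl R))}))
      rw [hF] at this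
      exact not_isUnit_mk_X _ (hmem b hb) 0 ((MulEquiv.isUnit_map ψ).mp this)
    · apply constantCoeff_mem_of_nonunit
      intro h
      have := h.map (Ideal.Quotient.mk (Ideal.span {(MvPowerSeries.X 0 * MvPowerSeries.X 1 -
        MvPowerSeries.C (algebraMap R (Curv2.cpl R) a) : MvPowerSeries (Fin 2) (Curv2.cpl R))}))
      rw [hG] at this
      exact not_isUnit_mk_X _ (hmem b hb) 1 ((MulEquiv.isUnit_map ψ).mp this)
    · rw [← Ideal.Quotient.eq, map_mul, hF, hG, ← map_mul, ← map_mul, ← hψ b]
      congr 1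
      rw [Ideal.Quotient.eq]
      exact Ideal.mem_span_singleton_self _
    · obtain ⟨H, hH⟩ := Ideal.Quotient.mk_surjective
        (ψ.symm (Ideal.Quotient.mk _ (MvPowerSeries.X 0)))
      have hHu : ¬ IsUnit H := by
        intro h
        have := h.map (Ideal.Quotient.mk (Ideal.span {(MvPowerSeries.X 0 * MvPowerSeries.X 1 -
          MvPowerSeries.C (algebraMap R (Curv2.cpl R) b) : MvPowerSeries (Fin 2) (Curv2.cpl R))}))
        rw [hH] at this
        exact not_isUnit_mk_X _ (hmem a ha) 0 ((MulEquiv.isUnit_map ψ.symm).mp this)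
      have h2 := mem_of_nonunit H hHu
      rw [← hmax, Ideal.map_map] at h2
      have h3 := Ideal.mem_map_of_mem ((ψ : DualGr.nodeRing R b →+* DualGr.nodeRing R a).comp
        (Ideal.Quotient.mk _)) h2
      have h4 : ((ψ : DualGr.nodeRing R b →+* DualGr.nodeRing R a).comp
        (Ideal.Quotient.mk _)) H = Ideal.Quotient.mk _ (MvPowerSeries.X 0) := by
        rw [RingHom.comp_apply, hH]
        exact ψ.apply_symm_apply _
      rw [h4, Ideal.map_sup, Ideal.map_map, Ideal.map_span, Set.image_pair] at h3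
      have h5 : (((ψ : DualGr.nodeRing R b →+* DualGr.nodeRing R a).comp
          (Ideal.Quotient.mk _)).comp
            ((MvPowerSeries.C (σ := Fin 2)).comp (algebraMap R (Curv2.cpl R)))) =
          (Ideal.Quotient.mk _).comp
            ((MvPowerSeries.C (σ := Fin 2)).comp (algebraMap R (Curv2.cpl R))) := by
        ext r
        exact hψ r
      have h6 : ((ψ : DualGr.nodeRing R b →+* DualGr.nodeRing R a).comp
          (Ideal.Quotient.mk _)) (MvPowerSeries.X 0) = Ideal.Quotient.mk _ F := by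
        rw [hF]; rfl
      have h7 : ((ψ : DualGr.nodeRing R b →+* DualGr.nodeRing R a).comp
          (Ideal.Quotient.mk _)) (MvPowerSeries.X 1) = Ideal.Quotient.mk _ G := by
        rw [hG]; rfl
      rw [h5, h6, h7, ← Ideal.map_map, ← Set.image_pair, ← Ideal.map_span, ← Ideal.map_sup,
        ← Ideal.map_map, hmax] at h3
      have h8 := Ideal.mem_comap.mpr h3
      rw [Ideal.comap_map_of_surjective _ Ideal.Quotient.mk_surjective] at h8
      have h9 : Ideal.comap (Ideal.Quotient.mk (Ideal.span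
        {(MvPowerSeries.X 0 * MvPowerSeries.X 1 - MvPowerSeries.C (algebraMap R (Curv2.cpl R) a) :
          MvPowerSeries (Fin 2) (Curv2.cpl R))})) ⊥ = Ideal.span
        {(MvPowerSeries.X 0 * MvPowerSeries.X 1 - MvPowerSeries.C (algebraMap R (Curv2.cpl R) a) :
          MvPowerSeries (Fin 2) (Curv2.cpl R))} := by
        rw [← RingHom.ker_eq_comap_bot, Ideal.mk_ker]
      rw [h9] at h8
      exact h8
  have hff : Module.FaithfullyFlat R (Curv2.cpl R) :=
    Groth.Agent.Ega4A.CplQuot.faithfullyFlat_cpl R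
  have h2 : Ideal.comap (algebraMap R (Curv2.cpl R))
      ((Ideal.span {a}).map (algebraMap R (Curv2.cpl R))) = Ideal.span {a} :=
    Ideal.comap_map_eq_self_of_faithfullyFlat _
  rw [← h2, Ideal.mem_comap, Ideal.map_span, Set.image_singleton]
  exact h1

theorem span_eq (R A : Type u) [CommRing R] [IsLocalRing R] [IsNoetherianRing R] [CommRing A]
    [IsLocalRing A]
    (φ : R →+* A) (a b : R) (ha : a ∈ maximalIdeal R) (hb : b ∈ maximalIdeal R)
    (h₁ : DualGr.IsThickNode φ a) (h₂ : DualGr.IsThickNode φ b) :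
    Ideal.span {a} = Ideal.span {b} := by
  obtain ⟨e₁, he₁⟩ := h₁
  obtain ⟨e₂, he₂⟩ := h₂
  apply le_antisymm
  · rw [Ideal.span_singleton_le_iff_mem]
    refine mem_span_of_nodeRing_equiv R b a hb ha (e₁.symm.trans e₂) ?_
    intro r
    rw [← he₁, ← he₂, RingEquiv.trans_apply, RingEquiv.symm_apply_apply]
  · rw [Ideal.span_singleton_le_iff_mem]
    refine mem_span_of_nodeRing_equiv R a b ha hb (e₂.symm.trans e₁) ?_
    intro r
    rw [← he₁, ← he₂, RingEquiv.trans_apply, RingEquiv.symm_apply_apply]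

end K934.Node
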